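import Cfsg.Agent.M23Order.Final
import Cfsg.Agent.SporadicA.T23

/-!
# A simple group of order 10200960 with self-centralizing Sylow 23- and 11-subgroups is `M₂₃`
-/

set_option autoImplicit false

open Cfsg Subgroup
open Cfsg.Agent.SmallSimple
open Cfsg.Agent.M23Order.Base
open Cfsg.Agent.M23Order.Setup

namespace Cfsg.Agent.M23Order.Endgame

universe u

variable {G : Type u} [Group G] [Finite G] [hs : IsSimpleGroup G]

theorem exists_hyp (hcard : Nat.card G = 10200960)
    (P : Sylow 23 G) (hCP : centralizer (P : Set G) = (P : Subgroup G))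
    (heP : (centralizer (P : Set G)).relIndex (normalizer (P : Set G)) = 11)
    (Q : Sylow 11 G) (hCQ : centralizer (Q : Set G) = (Q : Subgroup G))
    (heQ : (centralizer (Q : Set G)).relIndex (normalizer (Q : Set G)) = 5) :
    Nonempty (Hyp G) := by
  have : Fact (Nat.Prime 23) := ⟨by norm_num⟩
  have : Fact (Nat.Prime 11) := ⟨by norm_num⟩
  have hP : Nat.card P = 23 := by
    refine Simple168Max.card_sylow_eq_prime P ?_ ?_ <;> rw [hcard] <;> norm_num
  have hQ : Nat.card Q = 11 := by
    refine Simple168Max.card_sylow_eq_prime Q ?_ ?_ <;> rw [hcard] <;> norm_num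
  obtain ⟨D⟩ := exists_sc 23 (by norm_num) P hP hCP 11 2 heP (by norm_num)
  obtain ⟨E⟩ := exists_sc 11 (by norm_num) Q hQ hCQ 5 2 heQ (by norm_num)
  exact ⟨⟨hcard, MTwelve.SmallDegree.commutator_eq_top_of_card (by rw [hcard]; norm_num), P, hP, hCP, heP, Q, hQ, hCQ, heQ, D, E⟩⟩

theorem exists_index (hcard : Nat.card G = 10200960)
    (P : Sylow 23 G) (hCP : centralizer (P : Set G) = (P : Subgroup G))
    (heP : (centralizer (P : Set G)).relIndex (normalizer (P : Set G)) = 11)
    (Q : Sylow 11 G) (hCQ : centralizer (Q : Set G) = (Q : Subgroup G))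
    (heQ : (centralizer (Q : Set G)).relIndex (normalizer (Q : Set G)) = 5) :
    ∃ K : Subgroup G, K.index = 23 := by
  obtain ⟨H⟩ := exists_hyp hcard P hCP heP Q hCQ heQ
  exact Final.exists_index H

theorem isoM23_of_sylow (hcard : Nat.card G = 10200960)
    (P : Sylow 23 G) (hCP : centralizer (P : Set G) = (P : Subgroup G))
    (heP : (centralizer (P : Set G)).relIndex (normalizer (P : Set G)) = 11)
    (Q : Sylow 11 G) (hCQ : centralizer (Q : Set G) = (Q : Subgroup G))
    (heQ : (centralizer (Q : Set G)).relIndex (normalizer (Q : Set G)) = 5) :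
    Cfsg.Spor.IsoM23 G := by
  obtain ⟨K, hK⟩ := exists_index hcard P hCP heP Q hCQ heQ
  exact SporadicA.T23.isoM23_of_index ⟨hs, hcard⟩ K hK

end Cfsg.Agent.M23Order.Endgame

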