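import Cfsg.Agent.M23Order.Invol

/-!
# The column of a 2-central involution
-/

set_option autoImplicit false
set_option linter.unusedSectionVars false

open Cfsg Subgroup
open Cfsg.Agent.Characters.Core
open Cfsg.Agent.SmallSimple
open Cfsg.Agent.M23Order.Base
open Cfsg.Agent.M23Order.Setup
open Cfsg.Agent.M23Order.Eleven
open Cfsg.Agent.M23Order.Five
open Cfsg.Agent.M23Order.Invol
open scoped ComplexConjugate

namespace Cfsg.Agent.M23Order.Column

universe u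

variable {G : Type u} [Group G] [Finite G] [IsSimpleGroup G]

/-- The values at an involution `z` with `|G : C(z)| = 253 s`. -/
structure Col (H : Hyp G) (z : G) (s : ℕ) (v : IrrCharacter G → ℤ) : Prop where
  hz : z ^ 2 = 1
  hz1 : z ≠ 1
  s_dvd : s ∣ 315
  val : ∀ χ : IrrCharacter G, (χ : G → ℂ) z = v χ
  one : v H.D.one = 1
  lt : ∀ χ : IrrCharacter G, χ ≠ H.D.one → |v χ| < dg χ
  four : ∀ χ : IrrCharacter G, χ ≠ H.D.one → (4 : ℤ) ∣ dg χ - v χ
  dvd : ∀ χ : IrrCharacter G, (dg χ : ℤ) ∣ 253 * s * v χ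
  norm : ∀ S : Finset (IrrCharacter G), (∑ χ ∈ S, v χ ^ 2) * s ≤ 40320

theorem exists_col (H : Hyp G) : ∃ z s v, Col H z s v := by
  obtain ⟨z, hz, hz1, s, hs, hs', hs''⟩ := exists_invol H
  have h1 : ∀ χ : IrrCharacter G, ∃ n : ℤ, (χ : G → ℂ) z = n := by
    intro χ
    obtain ⟨_, n, -, h, -⟩ := InvolColumn.exists_int_of_char (isIrr_isCharacter χ.2) hz
    exact ⟨n, h⟩
  choose v hv using h1
  refine ⟨z, s, v, hz, hz1, hs', hv, ?_, ?_, ?_, ?_, ?_⟩
  · have := hv H.D.one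
    rw [H.D.coe_one, Pi.one_apply] at this
    exact_mod_cast this.symm
  · intro χ hχ
    obtain ⟨n, hn, hn', -⟩ := InvolColumn.exists_int H.hcomm χ.2 (fun h => hχ (Subtype.ext
      (by rw [H.D.coe_one]; exact h))) hz hz1
    have : v χ = n := by
      have h2 := hv χ
      rw [hn] at h2; exact_mod_cast h2.symm
    rw [this]; exact hn'
  · intro χ hχ
    obtain ⟨n, hn, -, hn'⟩ := InvolColumn.exists_int H.hcomm χ.2 (fun h => hχ (Subtype.ext
      (by rw [H.D.coe_one]; exact h))) hz hz1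
    have : v χ = n := by
      have h2 := hv χ
      rw [hn] at h2; exact_mod_cast h2.symm
    rw [this]; exact hn'
  · intro χ
    have := InvolColumn.dvd_index_mul χ.2 (hv χ)
    rw [hs] at this
    push_cast at this
    exact this
  · intro S
    have h2 := InvolColumn.sum_sq_le S z v (fun χ _ => hv χ)
    have h3 : (Nat.card (centralizer ({z} : Set G)) : ℤ) * s = 40320 := by exact_mod_cast hs''
    rw [← h3]
    exact mul_le_mul_of_nonneg_right h2 (by positivity)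

variable {H : Hyp G} {z : G} {s : ℕ} {v : IrrCharacter G → ℤ}

/-- (R1) -/
theorem Col.rel_one (C : Col H z s v) {p e t : ℕ} (hp2 : p.Coprime 2) (hp1 : p ≠ 1)
    {P : Sylow p G} (D : SC p e t P)
    {Θ : IrrCharacter G} (hΘ : Θ ∈ D.X) : ∑ χ ∈ D.NE, D.ε χ * v χ = D.d * v Θ := by
  have h1 := D.rel Θ hΘ z (fun h => hp1 (by
    have h2 : orderOf z ∣ 2 := orderOf_dvd_of_pow_eq_one C.hz
    exact Nat.dvd_one.1 (by rw [← hp2]; exact Nat.dvd_gcd dvd_rfl (h.trans h2))))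
  rw [C.val Θ, Finset.sum_congr rfl fun χ _ => by rw [C.val χ]] at h1
  exact_mod_cast h1

theorem exists_mem_ne_one {p : ℕ} {P : Sylow p G} (hP : Nat.card P = p) (hp : p ≠ 1) :
    ∃ x ∈ (P : Subgroup G), x ≠ 1 := by
  by_contra h
  push Not at h
  apply hp
  rw [← hP]
  have : (P : Subgroup G) = ⊥ := (Subgroup.eq_bot_iff_forall _).2 h
  change Nat.card (P : Subgroup G) = 1
  rw [this]; simp

/-- (R2) -/
theorem Col.rel_two (C : Col H z s v) {p e t : ℕ} (hp : p.Prime) (hp2 : p.Coprime 2)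
    (he2 : Odd e) {P : Sylow p G} (hP : Nat.card P = p)
    (hC : centralizer (P : Set G) = (P : Subgroup G))
    (he : (centralizer (P : Set G)).relIndex (normalizer (P : Set G)) = e)
    (D : SC p e t P) {Θ : IrrCharacter G} (hΘ : Θ ∈ D.X) :
    ∑ χ ∈ D.NE, (D.ε χ : ℂ) * ((v χ : ℂ) ^ 2 / dg χ) = D.d * ((v Θ : ℂ) ^ 2 / dg Θ) := by
  obtain ⟨x, hx, hx1⟩ := exists_mem_ne_one hP hp.one_lt.ne'
  have hR : InvolColumn.Rel x (fun g => ¬ p ∣ orderOf g) D.NE D.X D.ε D.d :=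
    { disj := D.disj
      val := fun χ hχ => D.val χ hχ x hx hx1
      out := fun χ hχ hχ' => D.out χ hχ hχ' x hx hx1
      hd := D.d_mem
      rel := D.rel
      one := by rw [orderOf_one]; exact fun h => hp.one_lt.ne' (Nat.dvd_one.1 h)
      ne_one := hx1 }
  have hz : ¬ p ∣ orderOf z := fun h => hp.one_lt.ne' (by
    have h2 : orderOf z ∣ 2 := orderOf_dvd_of_pow_eq_one C.hz
    exact Nat.dvd_one.1 (by rw [← hp2]; exact Nat.dvd_gcd dvd_rfl (h.trans h2)))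
  have hPodd : Odd (Nat.card (P : Subgroup G)) := by
    have : Nat.card (P : Subgroup G) = p := hP
    rw [this]
    exact Nat.coprime_two_right.1 hp2
  have h1 := hR.relTwo hΘ hz hz (fun u w hu hw => by
    refine InvolColumn.ne_mul_of_odd (P := (P : Subgroup G)) he he2
      (InvolColumn.zpowers_eq_of_card_prime hp hP) hPodd hx hx1 ?_ ?_
    · obtain ⟨g, rfl⟩ := isConj_iff.1 hu
      rw [conj_pow, C.hz]; group
    · obtain ⟨g, rfl⟩ := isConj_iff.1 hw
      rw [conj_pow, C.hz]; group)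
  rw [C.val Θ, dg_eq, ← pow_two] at h1
  rw [← h1]
  refine Finset.sum_congr rfl fun χ _ => ?_
  rw [C.val χ, dg_eq, pow_two]

theorem Col.rel_one23 (C : Col H z s v) {Θ : IrrCharacter G} (hΘ : Θ ∈ H.D.X) :
    ∑ χ ∈ H.D.NE, H.D.ε χ * v χ = H.D.d * v Θ :=
  C.rel_one (by norm_num) (by norm_num) H.D hΘ

theorem Col.rel_one11 (C : Col H z s v) {Θ : IrrCharacter G} (hΘ : Θ ∈ H.E.X) :
    ∑ χ ∈ H.E.NE, H.E.ε χ * v χ = H.E.d * v Θ :=
  C.rel_one (by norm_num) (by norm_num) H.E hΘ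

theorem Col.rel_two23 (C : Col H z s v) {Θ : IrrCharacter G} (hΘ : Θ ∈ H.D.X) :
    ∑ χ ∈ H.D.NE, (H.D.ε χ : ℂ) * ((v χ : ℂ) ^ 2 / dg χ) = H.D.d * ((v Θ : ℂ) ^ 2 / dg Θ) :=
  C.rel_two (by norm_num) (by norm_num) (by decide) H.hP H.hCP H.heP H.D hΘ

theorem Col.rel_two11 (C : Col H z s v) {Θ : IrrCharacter G} (hΘ : Θ ∈ H.E.X) :
    ∑ χ ∈ H.E.NE, (H.E.ε χ : ℂ) * ((v χ : ℂ) ^ 2 / dg χ) = H.E.d * ((v Θ : ℂ) ^ 2 / dg Θ) :=
  C.rel_two (by norm_num) (by norm_num) (by decide) H.hQ H.hCQ H.heQ H.E hΘ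

end Cfsg.Agent.M23Order.Column
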