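import Cfsg.Agent.M23Order.Column

/-!
# The values at the 2-central involution on the principal 11-block
-/

set_option autoImplicit false
set_option linter.unusedSectionVars false

open Cfsg Subgroup
open Cfsg.Agent.Characters.Core
open Cfsg.Agent.SmallSimple
open Cfsg.Agent.M23Order.Base
open Cfsg.Agent.M23Order.Setup
open Cfsg.Agent.M23Order.Eleven
open Cfsg.Agent.M23Order.Five
open Cfsg.Agent.M23Order.Invol
open Cfsg.Agent.M23Order.Column
open scoped ComplexConjugate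

namespace Cfsg.Agent.M23Order.ColumnEleven

universe u

section Arith

theorem s_mem {s : ℕ} (h : s ∣ 315) :
    s ∈ [1, 3, 5, 7, 9, 15, 21, 35, 45, 63, 105, 315] := by
  have key : ∀ s ∈ List.range 316, s ∣ 315 → s ∈ [1, 3, 5, 7, 9, 15, 21, 35, 45, 63, 105, 315] := by
    decide +kernel
  exact key s (List.mem_range.2 (Nat.lt_succ_of_le (Nat.le_of_dvd (by norm_num) h))) h

/-- Type (483, 45, 45, 1288). -/
def chkA : Bool :=
  (List.range 100).all fun k => (List.range 43).all fun m =>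
    let a : ℤ := 4 * k - 197
    let b : ℤ := a - (4 * m - 85)
    let N : ℤ := 120 * (a * a) - 45 * (b * b) - 57960
    !(N % 1288 == 0) || (List.range 22).all fun i =>
      let x : ℤ := 4 * i - 43
      let y : ℤ := 4 * m - 85 - 1 - x
      !(1288 * (x * x + y * y) == N)

theorem chkA_eq : chkA = true := by decide +kernel

/-- Type (230, 45, 45, 1035). -/
def chkB : Bool :=
  (List.range 100).all fun k => (List.range 43).all fun m =>
    let a : ℤ := 4 * k - 198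
    let b : ℤ := a - (4 * m - 85)
    let N : ℤ := 9 * (a * a) - 2 * (b * b) - 2070
    !(N % 46 == 0) || (List.range 22).all fun i =>
      let x : ℤ := 4 * i - 43
      let y : ℤ := 4 * m - 85 - 1 - x
      !(46 * (x * x + y * y) == N) ||
      [1, 3, 5, 7, 9, 15, 21, 35, 45, 63, 105, 315].all fun s : ℤ =>
        !(253 * s * x % 45 == 0) || !(253 * s * y % 45 == 0) || !(253 * s * a % 230 == 0) ||
        !(253 * s * b % 1035 == 0) ||
        !(decide ((1 + x * x + y * y + a * a + b * b) * s ≤ 40320)) ||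
        (s == 15 && x == -3 && y == -3 && a == 22) ||
        (s == 45 && a == 22 && b == 19 && x * x + y * y == 34)

theorem chkB_eq : chkB = true := by decide +kernel

theorem exists_idx {x : ℤ} (hx : |x| < 45) (hx4 : (4 : ℤ) ∣ 45 - x) :
    ∃ i : ℕ, i < 22 ∧ x = 4 * (i : ℤ) - 43 := by
  rw [abs_lt] at hx
  refine ⟨((x + 43) / 4).toNat, ?_, ?_⟩ <;> omega

theorem abs_le_of_sq {a : ℤ} (ha : a ^ 2 ≤ 40320) : -200 ≤ a ∧ a ≤ 200 := by
  constructor <;> nlinarith

theorem arith_A {x y a b : ℤ} (hx : |x| < 45) (hx4 : (4 : ℤ) ∣ 45 - x) (hy : |y| < 45)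
    (hy4 : (4 : ℤ) ∣ 45 - y) (ha : a ^ 2 ≤ 40320) (ha4 : (4 : ℤ) ∣ 483 - a)
    (h1 : 1 - a + x + y + b = 0) (h2 : 57960 - 120 * a ^ 2 + 1288 * (x ^ 2 + y ^ 2) +
      45 * b ^ 2 = 0) : False := by
  obtain ⟨i, hi, rfl⟩ := exists_idx hx hx4
  obtain ⟨j, hj, rfl⟩ := exists_idx hy hy4
  have ha' := abs_le_of_sq ha
  obtain ⟨k, hk, rfl⟩ : ∃ k : ℕ, k < 100 ∧ a = 4 * (k : ℤ) - 197 :=
    ⟨((a + 197) / 4).toNat, by omega, by omega⟩
  have hb : b = 4 * (k : ℤ) - 197 - (4 * ((i + j : ℕ) : ℤ) - 85) := by push_cast; linarith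
  subst hb
  have hm : i + j < 43 := by omega
  have key := chkA_eq
  unfold chkA at key
  have h3 := List.all_eq_true.1 (List.all_eq_true.1 key k (List.mem_range.2 hk)) (i + j)
    (List.mem_range.2 hm)
  simp only [Bool.or_eq_true, Bool.not_eq_true', beq_eq_false_iff_ne, ne_eq] at h3
  rcases h3 with h3 | h3
  · apply h3
    rw [← Int.dvd_iff_emod_eq_zero]
    refine ⟨(4 * (i : ℤ) - 43) ^ 2 + (4 * (j : ℤ) - 43) ^ 2, ?_⟩
    linear_combination -h2
  · have h4 := List.all_eq_true.1 h3 i (List.mem_range.2 hi)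
    simp only [Bool.not_eq_true', beq_eq_false_iff_ne, ne_eq] at h4
    apply h4
    push_cast at h2 ⊢
    linear_combination h2

theorem arith_B {s : ℕ} {x y a b : ℤ} (hs : s ∣ 315) (hx : |x| < 45) (hx4 : (4 : ℤ) ∣ 45 - x)
    (hy : |y| < 45)
    (hy4 : (4 : ℤ) ∣ 45 - y) (ha : a ^ 2 ≤ 40320) (ha4 : (4 : ℤ) ∣ 230 - a)
    (h1 : 1 - a + x + y + b = 0) (h2 : 2070 - 9 * a ^ 2 + 46 * (x ^ 2 + y ^ 2) +
      2 * b ^ 2 = 0) (dx : (45 : ℤ) ∣ 253 * s * x) (dy : (45 : ℤ) ∣ 253 * s * y)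
    (da : (230 : ℤ) ∣ 253 * s * a) (db : (1035 : ℤ) ∣ 253 * s * b)
    (hn : (1 + x ^ 2 + y ^ 2 + a ^ 2 + b ^ 2) * s ≤ 40320) :
    (s = 15 ∧ x = -3 ∧ y = -3 ∧ a = 22 ∧ b = 27) ∨
      (s = 45 ∧ a = 22 ∧ b = 19 ∧ x ^ 2 + y ^ 2 = 34) := by
  have hs' : (s : ℤ) ∈ ([1, 3, 5, 7, 9, 15, 21, 35, 45, 63, 105, 315] : List ℤ) := by
    have := s_mem hs
    simp only [List.mem_cons, List.not_mem_nil, or_false] at this ⊢
    omega
  obtain ⟨i, hi, rfl⟩ := exists_idx hx hx4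
  obtain ⟨j, hj, rfl⟩ := exists_idx hy hy4
  have ha' := abs_le_of_sq ha
  obtain ⟨k, hk, rfl⟩ : ∃ k : ℕ, k < 100 ∧ a = 4 * (k : ℤ) - 198 :=
    ⟨((a + 198) / 4).toNat, by omega, by omega⟩
  have hb : b = 4 * (k : ℤ) - 198 - (4 * ((i + j : ℕ) : ℤ) - 85) := by push_cast; linarith
  subst hb
  have hm : i + j < 43 := by omega
  have key := chkB_eq
  unfold chkB at key
  have h3 := List.all_eq_true.1 (List.all_eq_true.1 key k (List.mem_range.2 hk)) (i + j)
    (List.mem_range.2 hm)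
  simp only [Bool.or_eq_true, Bool.not_eq_true', beq_eq_false_iff_ne, ne_eq] at h3
  have hyy : 4 * ((i + j : ℕ) : ℤ) - 85 - 1 - (4 * (i : ℤ) - 43) = 4 * (j : ℤ) - 43 := by
    push_cast; ring
  rcases h3 with h3 | h3
  · exfalso
    apply h3
    rw [← Int.dvd_iff_emod_eq_zero]
    refine ⟨(4 * (i : ℤ) - 43) ^ 2 + (4 * (j : ℤ) - 43) ^ 2, ?_⟩
    linear_combination -h2
  · have h4 := List.all_eq_true.1 h3 i (List.mem_range.2 hi)
    rw [hyy] at h4
    simp only [Bool.or_eq_true, Bool.not_eq_true', beq_eq_false_iff_ne, ne_eq] at h4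
    rcases h4 with h4 | h4
    · exfalso
      apply h4
      push_cast at h2 ⊢
      linear_combination h2
    · have h5 := List.all_eq_true.1 h4 _ hs'
      simp only [Bool.or_eq_true, Bool.not_eq_true', beq_eq_false_iff_ne, ne_eq,
        Bool.and_eq_true, beq_iff_eq, decide_eq_false_iff_not] at h5
      rcases h5 with ((((((h5 | h5) | h5) | h5) | h5) | h5) | h5)
      · exact absurd (Int.emod_eq_zero_of_dvd dx) h5
      · exact absurd (Int.emod_eq_zero_of_dvd dy) h5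
      · exact absurd (Int.emod_eq_zero_of_dvd da) h5
      · exact absurd (Int.emod_eq_zero_of_dvd db) h5
      · exact absurd (by rw [← pow_two, ← pow_two, ← pow_two, ← pow_two]; exact hn) h5
      · left
        obtain ⟨⟨⟨h6, h7⟩, h8⟩, h9⟩ := h5
        refine ⟨by exact_mod_cast h6, h7, h8, h9, ?_⟩
        linarith
      · right
        obtain ⟨⟨⟨h6, h7⟩, h8⟩, h9⟩ := h5
        refine ⟨by exact_mod_cast h6, h7, h8, ?_⟩
        rw [pow_two, pow_two]; exact h9

end Arith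

variable {G : Type u} [Group G] [Finite G] [IsSimpleGroup G] {H : Hyp G} {z : G} {s : ℕ}
  {v : IrrCharacter G → ℤ}

theorem ne_one_of_dg {χ : IrrCharacter G} (H : Hyp G) (h : dg χ ≠ 1) : χ ≠ H.D.one := by
  rintro rfl; exact h (dg_one H)

theorem s_pos (C : Col H z s v) : 1 ≤ s := by
  have := C.s_dvd
  rcases Nat.eq_zero_or_pos s with h | h
  · rw [h] at this; omega
  · exact h

theorem sq_mul_le (C : Col H z s v) (χ : IrrCharacter G) : v χ ^ 2 * s ≤ 40320 := by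
  have := C.norm {χ}
  simpa using this

theorem sq_le (C : Col H z s v) (χ : IrrCharacter G) : v χ ^ 2 ≤ 40320 := by
  have h1 := sq_mul_le C χ
  have h2 : (1 : ℤ) ≤ s := by exact_mod_cast s_pos C
  nlinarith [sq_nonneg (v χ)]

/-- Characters of degree 896 vanish at `z`. -/
theorem v896 (C : Col H z s v) {χ : IrrCharacter G} (hχ : dg χ = 896) : v χ = 0 := by
  have h1 := C.dvd χ
  have h2 := C.lt χ (ne_one_of_dg H (by rw [hχ]; norm_num))
  have h3 := sq_mul_le C χ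
  rw [hχ] at h1 h2
  have hm := s_mem C.s_dvd
  rw [abs_lt] at h2
  by_cases hs : s = 1
  · subst hs
    push_cast at h1 h2
    omega
  · have h4 : 3 ≤ s := by
      simp only [List.mem_cons, List.not_mem_nil, or_false] at hm
      omega
    have h5 : (3 : ℤ) ≤ s := by exact_mod_cast h4
    have h6 : v χ ^ 2 ≤ 13440 := by nlinarith [sq_nonneg (v χ)]
    have h7 : -116 ≤ v χ ∧ v χ ≤ 116 := by constructor <;> nlinarith
    simp only [List.mem_cons, List.not_mem_nil, or_false] at hm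
    rcases hm with rfl | rfl | rfl | rfl | rfl | rfl | rfl | rfl | rfl | rfl | rfl | rfl <;>
      push_cast at h1 <;> omega

/-- The principal 11-block with the column of `z`. -/
structure Elev (H : Hyp G) (z : G) (v : IrrCharacter G → ℤ) (a b c d g h b₁ c₁ : IrrCharacter G) :
    Prop where
  col : Col H z 15 v
  nodup : [a, b, c, d].Nodup
  mem : ∀ χ, χ ∈ [a, b, c, d] ↔ χ ∈ H.E.NE ∧ χ ≠ H.D.one
  dga : dg a = 230
  dgb : dg b = 45
  dgc : dg c = 45
  dgd : dg d = 1035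
  dgg : dg g = 231
  dgh : dg h = 2024
  dgb₁ : dg b₁ = 896
  dgc₁ : dg c₁ = 896
  b₁_ne : b₁ ≠ c₁
  X : ∀ χ, χ ∈ H.E.X ↔ χ = b₁ ∨ χ = c₁
  f : H.E.f = 896
  va : v a = 22
  vb : v b = -3
  vc : v c = -3
  vd : v d = 27
  vg : v g = 7
  vh : v h = 8

/-- The value at `z` of the characters of `B_0(5)`. -/
theorem arith_g {s : ℕ} {g h : ℤ} (hs : s = 15 ∨ s = 45) (hg : (231 : ℤ) ∣ 253 * s * g)
    (hg4 : (4 : ℤ) ∣ 231 - g) (hh : (2024 : ℤ) ∣ 253 * s * h)
    (hgh : 1 + g = h) (hn : (880 + g ^ 2 + h ^ 2) * s ≤ 40320) : s = 15 ∧ g = 7 ∧ h = 8 := by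
  have h1 : (7 : ℤ) ∣ g := by rcases hs with rfl | rfl <;> push_cast at hg <;> omega
  have h2 : (8 : ℤ) ∣ h := by rcases hs with rfl | rfl <;> push_cast at hh <;> omega
  have h3 : (15 : ℤ) ≤ s := by rcases hs with rfl | rfl <;> norm_num
  have h4 : g ^ 2 + h ^ 2 ≤ 1808 := by nlinarith [sq_nonneg g, sq_nonneg h]
  have h5 : -42 ≤ g ∧ g ≤ 42 := by constructor <;> nlinarith [sq_nonneg h]
  have h6 : g = 7 := by omega
  have h7 : h = 8 := by omega
  refine ⟨?_, h6, h7⟩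
  rcases hs with rfl | rfl
  · rfl
  · rw [h6, h7] at hn; norm_num at hn

theorem arith_C {s : ℕ} {x y a b g h : ℤ} (hs : s ∣ 315) (hx : |x| < 45)
    (hx4 : (4 : ℤ) ∣ 45 - x) (hy : |y| < 45)
    (hy4 : (4 : ℤ) ∣ 45 - y) (ha : a ^ 2 ≤ 40320) (ha4 : (4 : ℤ) ∣ 230 - a)
    (h1 : 1 - a + x + y + b = 0) (h2 : 2070 - 9 * a ^ 2 + 46 * (x ^ 2 + y ^ 2) +
      2 * b ^ 2 = 0) (dx : (45 : ℤ) ∣ 253 * s * x) (dy : (45 : ℤ) ∣ 253 * s * y)
    (da : (230 : ℤ) ∣ 253 * s * a) (db : (1035 : ℤ) ∣ 253 * s * b)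
    (hg : (231 : ℤ) ∣ 253 * s * g)
    (hg4 : (4 : ℤ) ∣ 231 - g) (hh : (2024 : ℤ) ∣ 253 * s * h)
    (hgh : 1 + g = h)
    (hn : (h ^ 2 + (g ^ 2 + (1 + a ^ 2 + x ^ 2 + y ^ 2 + b ^ 2))) * s ≤ 40320) :
    s = 15 ∧ a = 22 ∧ x = -3 ∧ y = -3 ∧ b = 27 ∧ g = 7 ∧ h = 8 := by
  have hs0 : (0 : ℤ) ≤ s := by positivity
  have hn1 : (1 + x ^ 2 + y ^ 2 + a ^ 2 + b ^ 2) * s ≤ 40320 := by
    refine le_trans (mul_le_mul_of_nonneg_right ?_ hs0) hn
    linarith [sq_nonneg g, sq_nonneg h]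
  have key := arith_B hs hx hx4 hy hy4 ha ha4 h1 h2 dx dy da db hn1
  have key2 : 879 ≤ x ^ 2 + y ^ 2 + a ^ 2 + b ^ 2 := by
    rcases key with ⟨-, k5, k6, k7, k8⟩ | ⟨-, k5, k6, k7⟩
    · rw [k5, k6, k7, k8]; norm_num
    · rw [k5, k6]; linarith
  have key3 := arith_g (s := s) (g := g) (h := h)
    (by rcases key with h' | h' <;> [left; right] <;> exact h'.1) hg hg4 hh hgh (by
      refine le_trans (mul_le_mul_of_nonneg_right ?_ hs0) hn
      linarith)
  obtain ⟨k1, k9, k10⟩ := key3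
  rcases key with ⟨-, k5, k6, k7, k8⟩ | ⟨k5, -⟩
  · exact ⟨k1, k7, k5, k6, k8, k9, k10⟩
  · omega

theorem exists_elev (H : Hyp G) : ∃ z v a b c d g h b₁ c₁, Elev H z v a b c d g h b₁ c₁ := by
  classical
  obtain ⟨z, s, v, C⟩ := exists_col H
  obtain ⟨g, b₁, c₁, h, dgg, dgb₁, dgc₁, dgh, hne, hfive⟩ := exists_five H
  obtain ⟨a, b, c, d, hnd, hmem, s₁, hs₁, s₂, hs₂, s₃, hs₃, s₄, hs₄, h12, h23, h34, e₁, e₂, e₃, e₄,
    hrel, -, hsum⟩ := exists_four H
  have hb₁ : b₁ ∈ H.E.X := mem_X11 H (by rw [dgb₁]; norm_num)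
  have hc₁ : c₁ ∈ H.E.X := mem_X11 H (by rw [dgc₁]; norm_num)
  have hX : ∀ χ, χ ∈ H.E.X ↔ χ = b₁ ∨ χ = c₁ := by
    have h0 : H.E.X = {b₁, c₁} := by
      symm
      refine Finset.eq_of_subset_of_card_le ?_ ?_
      · intro χ hχ
        rw [Finset.mem_insert, Finset.mem_singleton] at hχ
        rcases hχ with rfl | rfl <;> assumption
      · rw [H.E.card_X, Finset.card_pair hne]
    intro χ
    rw [h0, Finset.mem_insert, Finset.mem_singleton]
  have hf : H.E.f = 896 := by rw [← H.E.deg_X b₁ hb₁, dgb₁]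
  have hd1 : H.E.d = 1 := by
    rcases mod11_X H hb₁ with h' | h'
    · exact h'.1
    · rw [dgb₁] at h'; omega
  rw [hf, hd1] at hrel
  have hmem' : ∀ χ, χ ∈ [a, b, c, d] ↔ χ ∈ H.E.NE ∧ χ ≠ H.D.one := by
    intro χ; rw [hmem, one_eq_one H]
  have ma := ((hmem a).1 (by simp)).1
  have mb := ((hmem b).1 (by simp)).1
  have mc := ((hmem c).1 (by simp)).1
  have md := ((hmem d).1 (by simp)).1
  have na := natAbs_signed H ma
  have nb := natAbs_signed H mb
  have nc := natAbs_signed H mc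
  have nd := natAbs_signed H md
  rw [← e₁] at na
  rw [← e₂] at nb
  rw [← e₃] at nc
  rw [← e₄] at nd
  -- sums of integers
  have hsumZ : ∀ F : IrrCharacter G → ℤ, ∑ χ ∈ H.E.NE, F χ = F H.E.one + F a + F b + F c + F d := by
    intro F
    have := hsum (fun χ => (F χ : ℂ))
    exact_mod_cast this
  have hR1 := C.rel_one11 hb₁
  have hR2 := C.rel_two11 hb₁
  rw [v896 C dgb₁, hsumZ, hd1, H.E.ε_one, one_eq_one H, C.one] at hR1
  rw [v896 C dgb₁, hsum, H.E.ε_one, one_eq_one H, C.one, dg_one H] at hR2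
  have hg0 : g ∉ H.E.NE := by
    intro h'
    rcases mod11_NE H h' with h'' | h'' <;> rw [dgg] at h'' <;> omega
  have hh0 : h ∉ insert g H.E.NE := by
    intro h'
    rw [Finset.mem_insert] at h'
    rcases h' with rfl | h'
    · omega
    · rcases mod11_NE H h' with h'' | h'' <;> rw [dgh] at h'' <;> omega
  have hnorm := C.norm (insert h (insert g H.E.NE))
  rw [Finset.sum_insert hh0, Finset.sum_insert hg0, hsumZ, one_eq_one H, C.one] at hnorm
  have hgh : 1 + v g = v h := by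
    have h1 := hfive z (fun h' => by
      have h2 : orderOf z ∣ 2 := orderOf_dvd_of_pow_eq_one C.hz
      have h3 := h'.trans h2
      omega)
    rw [C.val, C.val, C.val, C.val, v896 C dgb₁, v896 C dgc₁] at h1
    have : ((1 + v g : ℤ) : ℂ) = ((v h : ℤ) : ℂ) := by
      push_cast
      rw [← h1]
      push_cast
      ring
    exact_mod_cast this
  have hsgn : ∀ χ ∈ H.E.NE, dg χ ≠ 0 → ∀ n : ℤ, n = H.E.ε χ * (dg χ : ℤ) →
      (0 < n → H.E.ε χ = 1) ∧ (n < 0 → H.E.ε χ = -1) := by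
    intro χ hχ _ n hn
    rcases H.E.ε_mem χ hχ with h' | h' <;> rw [h'] at hn ⊢ <;> constructor <;> intro <;> omega
  have sa := hsgn a ma (dg_ne_zero a) _ e₁
  have sb := hsgn b mb (dg_ne_zero b) _ e₂
  have sc := hsgn c mc (dg_ne_zero c) _ e₃
  have sd := hsgn d md (dg_ne_zero d) _ e₄
  have hgdvd := C.dvd g
  have hhdvd := C.dvd h
  have hg4 := C.four g (ne_one_of_dg H (by rw [dgg]; norm_num))
  rw [dgg] at hgdvd hg4
  rw [dgh] at hhdvd
  rcases arith_896 s₁ hs₁ s₂ hs₂ h12 s₃ hs₃ h23 s₄ hs₄ h34 (by rw [hrel]; norm_num) with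
    ⟨k1, k2, k3, k4⟩ | ⟨k1, k2, k3, k4⟩
  · exfalso
    rw [k1] at na; rw [k2] at nb; rw [k3] at nc; rw [k4] at nd
    rw [sa.2 (by omega), sb.1 (by omega), sc.1 (by omega), sd.1 (by omega)] at hR1 hR2
    have da : dg a = 483 := by omega
    have db : dg b = 45 := by omega
    have dc : dg c = 45 := by omega
    have dd : dg d = 1288 := by omega
    rw [da, db, dc, dd] at hR2
    have h4a := C.four a (ne_one_of_dg H (by rw [da]; norm_num))
    have h4b := C.four b (ne_one_of_dg H (by rw [db]; norm_num))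
    have h4c := C.four c (ne_one_of_dg H (by rw [dc]; norm_num))
    have hlb := C.lt b (ne_one_of_dg H (by rw [db]; norm_num))
    have hlc := C.lt c (ne_one_of_dg H (by rw [dc]; norm_num))
    rw [da] at h4a
    rw [db] at h4b hlb
    rw [dc] at h4c hlc
    refine arith_A (x := v b) (y := v c) (a := v a) (b := v d) hlb h4b hlc h4c (sq_le C a) h4a
      (by linarith) ?_
    have : ((57960 - 120 * v a ^ 2 + 1288 * (v b ^ 2 + v c ^ 2) + 45 * v d ^ 2 : ℤ) : ℂ) = 0 := by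
      push_cast at hR2 ⊢
      linear_combination 57960 * hR2
    exact_mod_cast this
  · rw [k1] at na; rw [k2] at nb; rw [k3] at nc; rw [k4] at nd
    rw [sa.2 (by omega), sb.1 (by omega), sc.1 (by omega), sd.1 (by omega)] at hR1 hR2
    have da : dg a = 230 := by omega
    have db : dg b = 45 := by omega
    have dc : dg c = 45 := by omega
    have dd : dg d = 1035 := by omega
    rw [da, db, dc, dd] at hR2
    have h4a := C.four a (ne_one_of_dg H (by rw [da]; norm_num))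
    have h4b := C.four b (ne_one_of_dg H (by rw [db]; norm_num))
    have h4c := C.four c (ne_one_of_dg H (by rw [dc]; norm_num))
    have hlb := C.lt b (ne_one_of_dg H (by rw [db]; norm_num))
    have hlc := C.lt c (ne_one_of_dg H (by rw [dc]; norm_num))
    have hda := C.dvd a
    have hdb := C.dvd b
    have hdc := C.dvd c
    have hdd := C.dvd d
    rw [da] at h4a hda
    rw [db] at h4b hlb hdb
    rw [dc] at h4c hlc hdc
    rw [dd] at hdd
    obtain ⟨rfl, k⟩ := arith_C C.s_dvd hlb h4b hlc h4c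
      (sq_le C a) h4a (by linarith) (by
        have : ((2070 - 9 * v a ^ 2 + 46 * (v b ^ 2 + v c ^ 2) + 2 * v d ^ 2 : ℤ) : ℂ) = 0 := by
          push_cast at hR2 ⊢
          linear_combination 2070 * hR2
        exact_mod_cast this) hdb hdc hda hdd hgdvd hg4 hhdvd hgh (by
          rw [one_pow] at hnorm; exact hnorm)
    exact ⟨z, v, a, b, c, d, g, h, b₁, c₁, C, hnd, hmem', da, db, dc, dd, dgg, dgh, dgb₁, dgc₁, hne,
      hX, hf, k.1, k.2.1, k.2.2.1, k.2.2.2.1, k.2.2.2.2.1, k.2.2.2.2.2⟩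

end Cfsg.Agent.M23Order.ColumnEleven
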