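import Cfsg.Agent.M23Order.Setup

/-!
# The principal 11-block
-/

set_option autoImplicit false
set_option linter.unusedSectionVars false

open Cfsg Subgroup
open Cfsg.Agent.Characters.Core
open Cfsg.Agent.SmallSimple
open Cfsg.Agent.M23Order.Base
open Cfsg.Agent.M23Order.Setup
open scoped ComplexConjugate

namespace Cfsg.Agent.M23Order.Eleven

universe u

variable {G : Type u} [Group G] [Finite G]

/-- The nontrivial nonexceptional characters as a list sorted by signed degree. -/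
theorem exists_list {p e t : ℕ} {P : Sylow p G} (D : SC p e t P) :
    ∃ l : List (IrrCharacter G), l.Nodup ∧ (∀ χ, χ ∈ l ↔ χ ∈ D.NE ∧ χ ≠ D.one) ∧
      l.length + 1 = e ∧ (l.map fun χ => D.ε χ * (dg χ : ℤ)).Pairwise (· ≤ ·) ∧
      (∀ F : IrrCharacter G → ℂ, ∑ χ ∈ D.NE, F χ = F D.one + (l.map F).sum) ∧
      (∀ F : IrrCharacter G → ℤ, ∑ χ ∈ D.NE, F χ = F D.one + (l.map F).sum) := by
  classical
  obtain ⟨l, h1, h2, h3⟩ := DegreeData.exists_sorted (D.NE.erase D.one)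
    (fun χ => D.ε χ * (dg χ : ℤ))
  refine ⟨l, h1, ?_, ?_, h3, ?_, ?_⟩
  · intro χ
    rw [← List.mem_toFinset, h2, Finset.mem_erase, and_comm]
  · rw [← D.card_NE, ← Finset.card_erase_add_one D.one_mem, ← h2, List.toFinset_card_of_nodup h1]
  · intro F
    rw [← Finset.add_sum_erase D.NE F D.one_mem, ← h2, List.sum_toFinset F h1]
  · intro F
    rw [← Finset.add_sum_erase D.NE F D.one_mem, ← h2, List.sum_toFinset F h1]

variable [IsSimpleGroup G] (H : Hyp G)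

include H

/-- Signed degrees of the nontrivial nonexceptional characters at 11. -/
def L11 : List ℤ := [-2760, -736, -483, -252, -230, 12, 23, 45, 276, 1035, 1288]

omit H [Group G] [Finite G] [IsSimpleGroup G] in
theorem arith_L11 : ∀ d ∈ A, d ≠ 1 → (d % 11 = 1 → (d : ℤ) ∈ L11) ∧
    (d % 11 = 10 → (-(d : ℤ)) ∈ L11) := by
  decide

theorem signed_mem_L11 {χ : IrrCharacter G} (hχ : χ ∈ H.E.NE) (h1 : χ ≠ H.E.one) :
    H.E.ε χ * (dg χ : ℤ) ∈ L11 := by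
  have hd : dg χ ≠ 1 := fun h => h1 (by rw [one_eq_one H]; exact eq_one_of_dg H h)
  have hA := arith_L11 _ (dg_mem_A H χ) hd
  rcases mod11_NE H hχ with ⟨h, h'⟩ | ⟨h, h'⟩
  · rw [h, one_mul]; exact hA.1 h'
  · rw [h, neg_one_mul]; exact hA.2 h'

theorem natAbs_signed {χ : IrrCharacter G} (hχ : χ ∈ H.E.NE) :
    (H.E.ε χ * (dg χ : ℤ)).natAbs = dg χ := by
  rcases H.E.ε_mem χ hχ with h | h <;> rw [h] <;> simp

theorem X11_nonempty : ∃ Θ, Θ ∈ H.E.X := by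
  have : H.E.X.Nonempty := by rw [← Finset.card_ne_zero, H.E.card_X]; norm_num
  exact this

theorem X23_nonempty : ∃ Θ, Θ ∈ H.D.X := by
  have : H.D.X.Nonempty := by rw [← Finset.card_ne_zero, H.D.card_X]; norm_num
  exact this

/-- The principal 11-block as a list. -/
theorem exists_four : ∃ a b c d : IrrCharacter G, [a, b, c, d].Nodup ∧
    (∀ χ, χ ∈ [a, b, c, d] ↔ χ ∈ H.E.NE ∧ χ ≠ H.E.one) ∧
    ∃ s₁ ∈ L11, ∃ s₂ ∈ L11, ∃ s₃ ∈ L11, ∃ s₄ ∈ L11, s₁ ≤ s₂ ∧ s₂ ≤ s₃ ∧ s₃ ≤ s₄ ∧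
      s₁ = H.E.ε a * (dg a : ℤ) ∧ s₂ = H.E.ε b * (dg b : ℤ) ∧ s₃ = H.E.ε c * (dg c : ℤ) ∧
      s₄ = H.E.ε d * (dg d : ℤ) ∧
      1 + s₁ + s₂ + s₃ + s₄ = H.E.d * H.E.f ∧
      (∀ Θ ∈ H.E.X, ∀ g : G, ¬ 11 ∣ orderOf g →
        1 + H.E.ε a * (a : G → ℂ) g + H.E.ε b * (b : G → ℂ) g + H.E.ε c * (c : G → ℂ) g +
          H.E.ε d * (d : G → ℂ) g = H.E.d * (Θ : G → ℂ) g) ∧
      (∀ F : IrrCharacter G → ℂ, ∑ χ ∈ H.E.NE, F χ = F H.E.one + F a + F b + F c + F d) := by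
  obtain ⟨l, h1, h2, h3, h4, h5, h6⟩ := exists_list H.E
  obtain ⟨a, b, c, d, rfl⟩ : ∃ a b c d, l = [a, b, c, d] := by
    have hl : l.length = 4 := by omega
    match l, hl with
    | [a, b, c, d], _ => exact ⟨a, b, c, d, rfl⟩
  have hm : ∀ χ ∈ [a, b, c, d], H.E.ε χ * (dg χ : ℤ) ∈ L11 := fun χ hχ =>
    signed_mem_L11 H ((h2 χ).1 hχ).1 ((h2 χ).1 hχ).2
  simp only [List.map_cons, List.map_nil, List.pairwise_cons, List.mem_cons, List.not_mem_nil,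
    or_false, forall_eq_or_imp, forall_eq, IsEmpty.forall_iff, implies_true, List.Pairwise.nil,
    and_true, false_imp_iff] at h4
  refine ⟨a, b, c, d, h1, h2, _, hm a (by simp), _, hm b (by simp), _, hm c (by simp), _,
    hm d (by simp), h4.1.1, h4.2.1.1, h4.2.2, rfl, rfl, rfl, rfl, ?_, ?_, ?_⟩
  · obtain ⟨Θ, hΘ⟩ := X11_nonempty H
    have h7 := H.E.rel_deg (by norm_num) hΘ
    rw [h6] at h7
    rw [← h7, H.E.ε_one, one_eq_one H, dg_one H]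
    simp only [List.map_cons, List.map_nil, List.sum_cons, List.sum_nil]
    push_cast
    ring
  · intro Θ hΘ g hg
    have h7 := H.E.rel Θ hΘ g hg
    rw [h5] at h7
    rw [← h7, H.E.ε_one, H.E.coe_one]
    simp only [List.map_cons, List.map_nil, List.sum_cons, List.sum_nil, Pi.one_apply]
    push_cast
    ring
  · intro F
    rw [h5]
    simp only [List.map_cons, List.map_nil, List.sum_cons, List.sum_nil]
    ring

omit H [Group G] [Finite G] [IsSimpleGroup G] in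
theorem arith_126 : ∀ s₁ ∈ L11, s₁ ≠ 12 → ∀ s₂ ∈ L11, s₂ ≠ 12 → ∀ s₃ ∈ L11, s₃ ≠ 12 →
    ∀ s₄ ∈ L11, s₄ ≠ 12 → 1 + s₁ + s₂ + s₃ + s₄ ≠ 126 := by
  decide +kernel

/-- There is no irreducible character of degree 126. -/
theorem dg_ne_126 (χ : IrrCharacter G) : dg χ ≠ 126 := by
  intro hχ
  obtain ⟨a, b, c, d, -, h2, s₁, hs₁, s₂, hs₂, s₃, hs₃, s₄, hs₄, -, -, -, e₁, e₂, e₃, e₄, h3, -⟩ :=
    exists_four H
  have hX : χ ∈ H.E.X := mem_X11 H (Or.inl (by rw [hχ]))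
  have hf : H.E.f = 126 := by rw [← H.E.deg_X χ hX, hχ]
  have hd : H.E.d = 1 := by
    rcases mod11_X H hX with h | h
    · exact h.1
    · rw [hχ] at h; omega
  have h12 : ∀ ψ : IrrCharacter G, dg ψ ≠ 12 := by
    intro ψ hψ
    have := compat23 H (χ := χ) (ψ := ψ) (by rw [hχ]; norm_num) (by rw [hψ]; norm_num)
    omega
  have hne : ∀ ψ ∈ [a, b, c, d], H.E.ε ψ * (dg ψ : ℤ) ≠ 12 := by
    intro ψ hψ h
    have h4 := natAbs_signed H ((h2 ψ).1 hψ).1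
    rw [h] at h4
    exact h12 ψ h4.symm
  rw [hf, hd] at h3
  exact arith_126 s₁ hs₁ (by rw [e₁]; exact hne a (by simp)) s₂ hs₂
    (by rw [e₂]; exact hne b (by simp)) s₃ hs₃ (by rw [e₃]; exact hne c (by simp)) s₄ hs₄
    (by rw [e₄]; exact hne d (by simp)) (by rw [h3]; norm_num)

omit H [Group G] [Finite G] [IsSimpleGroup G] in
theorem arith_896 : ∀ s₁ ∈ L11, ∀ s₂ ∈ L11, s₁ ≤ s₂ → ∀ s₃ ∈ L11, s₂ ≤ s₃ → ∀ s₄ ∈ L11, s₃ ≤ s₄ →
    1 + s₁ + s₂ + s₃ + s₄ = 896 → (s₁ = -483 ∧ s₂ = 45 ∧ s₃ = 45 ∧ s₄ = 1288) ∨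
      (s₁ = -230 ∧ s₂ = 45 ∧ s₃ = 45 ∧ s₄ = 1035) := by
  decide +kernel

end Cfsg.Agent.M23Order.Eleven
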