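import Cfsg.Agent.M23Order.TwentyThree
import Cfsg.Agent.PermChar.PermTrans
import Cfsg.Agent.S0158

/-!
# The character of degree 22 and the subgroup of index 23
-/

set_option autoImplicit false
set_option linter.unusedSectionVars false

open Cfsg Subgroup
open Cfsg.Agent.Characters.Core
open Cfsg.Agent.SmallSimple
open Cfsg.Agent.M23Order.Base
open Cfsg.Agent.M23Order.Setup
open Cfsg.Agent.M23Order.Eleven
open Cfsg.Agent.M23Order.Five
open Cfsg.Agent.M23Order.Invol
open Cfsg.Agent.M23Order.Column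
open Cfsg.Agent.M23Order.ColumnEleven
open Cfsg.Agent.M23Order.TwentyThree
open scoped ComplexConjugate

namespace Cfsg.Agent.M23Order.Final

universe u

variable {G : Type u} [Group G] [Finite G]

/-- Frobenius–Schur indicator of a real irreducible character. -/
theorem sum_sq_eq [Fintype G] {χ : G → ℂ} (hχ : IsIrrCharacter G χ)
    (hreal : ∀ g, conj (χ g) = χ g) : ∃ ν : ℂ, (ν = 1 ∨ ν = -1) ∧
      ∑ s : G, χ (s * s) = ν * Nat.card G := by
  obtain ⟨n, ρ, hρ, rfl⟩ := hχ
  have h := Cfsg.Agent.S0158.result ρ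
  have hne : (Nat.card G : ℂ) ≠ 0 := card_ne_zero_complex
  have h0 : ¬ ((Nat.card G : ℂ)⁻¹ * ∑ s : G, ρ.character (s * s) = 0) := by
    rw [h.2]
    rintro ⟨s, hs⟩
    exact hs (Complex.conj_eq_iff_im.1 (hreal s))
  refine ⟨(Nat.card G : ℂ)⁻¹ * ∑ s : G, ρ.character (s * s), h.1.resolve_left h0, ?_⟩
  field_simp

variable [IsSimpleGroup G] {H : Hyp G} {z : G} {v : IrrCharacter G → ℤ}
  {a b c d g h b₁ c₁ : IrrCharacter G}

/-- The data for the last step. -/
structure Fin22 (H : Hyp G) (z : G) (a V : IrrCharacter G) : Prop where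
  hz : z ^ 2 = 1
  va : (a : G → ℂ) z = 22
  vV : ∃ n : ℤ, (V : G → ℂ) z = n
  dgV : dg V = 22
  dga : dg a = 230
  uniq : ∀ χ : IrrCharacter G, dg χ = 22 → χ = V
  cls : ∀ χ : IrrCharacter G, χ ≠ H.D.one → (χ = V ∧ kk H χ = 506) ∨ (dg χ = 45 ∧ kk H χ = 552) ∨
    (dg χ = 231 ∧ kk H χ = 0) ∨ (χ = a ∧ kk H χ = 460) ∨ (253 ≤ dg χ ∧ 506 ≤ kk H χ)

theorem exists_fin22 (H : Hyp G) : ∃ z a V, Fin22 H z a V := by
  obtain ⟨z, v, a, b, c, d, g, h, b₁, c₁, K⟩ := exists_elev H
  obtain ⟨x₁, x₂, x₃, x₄, x₅, hx, d1, d2, d3, d4, d5, hf⟩ := exists_block K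
  have hd1 : H.D.d = 1 := by
    obtain ⟨Θ, hΘ⟩ := X23_nonempty H
    rcases mod23_X H hΘ with h' | h'
    · exact h'.1
    · rw [H.D.deg_X Θ hΘ, hf] at h'; omega
  have hNEd : ∀ χ ∈ H.D.NE, χ = H.D.one ∨ dg χ = 45 ∨ dg χ = 896 ∨ dg χ = 231 ∨ χ = x₁ ∨
      dg χ = 990 := by
    intro χ hχ
    have h1 := (hx χ).1 hχ
    simp only [List.mem_cons, List.not_mem_nil, or_false] at h1
    rcases h1 with h1 | h1 | h1 | h1 | h1 | h1 | h1 | h1 | h1 | h1 | h1
    · exact Or.inl h1
    · right; left; rw [h1, K.dgb]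
    · right; left; rw [h1, K.dgc]
    · right; right; left; rw [h1, K.dgb₁]
    · right; right; left; rw [h1, K.dgc₁]
    · right; right; right; left; rw [h1, K.dgg]
    · right; right; right; right; left; exact h1
    · right; right; right; left; rw [h1, d2]
    · right; right; right; left; rw [h1, d3]
    · right; right; right; right; right; rw [h1, d4]
    · right; right; right; right; right; rw [h1, d5]
  refine ⟨z, a, x₁, K.col.hz, ?_, ⟨_, K.col.val x₁⟩, d1, K.dga, ?_, ?_⟩
  · rw [K.col.val a, K.va]; norm_num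
  · intro χ hχ
    have h1 : χ ∈ H.D.NE := mem_NE23 H (by rw [hχ]; norm_num)
    rcases hNEd χ h1 with h2 | h2 | h2 | h2 | h2 | h2
    · rw [h2, dg_one H] at hχ; omega
    · omega
    · omega
    · omega
    · exact h2
    · omega
  · intro χ hχ
    by_cases h1 : χ ∈ H.D.NE
    · have h3 := mod23_NE H h1
      rcases hNEd χ h1 with h2 | h2 | h2 | h2 | h2 | h2
      · exact absurd h2 hχ
      · right; left
        rcases h3 with h3 | h3
        · omega
        · exact ⟨h2, by rw [kk_NE_neg H h1 h3.1, h2]; norm_num⟩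
      · right; right; right; right
        rcases h3 with h3 | h3
        · omega
        · exact ⟨by omega, by rw [kk_NE_neg H h1 h3.1, h2]; norm_num⟩
      · right; right; left
        rcases h3 with h3 | h3
        · exact ⟨h2, by rw [kk_NE_pos H h1 h3.1, h2]; norm_num⟩
        · omega
      · left
        rcases h3 with h3 | h3
        · rw [h2, d1] at h3; omega
        · exact ⟨h2, by rw [kk_NE_neg H h1 h3.1, h2, d1]; norm_num⟩
      · right; right; right; right
        rcases h3 with h3 | h3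
        · exact ⟨by omega, by rw [kk_NE_pos H h1 h3.1, h2]; norm_num⟩
        · omega
    · by_cases h2 : χ ∈ H.D.X
      · right; right; right; right
        have h3 := H.D.deg_X χ h2
        rw [hf] at h3
        exact ⟨by omega, by rw [kk_X H h2, h3, hd1]; norm_num⟩
      · have h3 := mod23_out H h1 h2
        rw [kk_out H h1 h2]
        by_cases ha : χ = a
        · right; right; right; left
          exact ⟨ha, by rw [ha, K.dga]; norm_num⟩
        · right; right; right; right
          by_cases hd : χ = d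
          · rw [hd, K.dgd]; norm_num
          · have hne : ∀ {ψ : IrrCharacter G}, dg ψ % 23 ≠ 0 → χ ≠ ψ := by
              rintro ψ h4 rfl; exact h4 h3
            have h5 := dg_mod K hχ ha (hne (by rw [K.dgb]; norm_num))
              (hne (by rw [K.dgc]; norm_num)) hd (hne (by rw [K.dgb₁]; norm_num))
              (hne (by rw [K.dgc₁]; norm_num))
            have h6 := dg_ne_zero χ
            omega

variable {V : IrrCharacter G}

theorem Fin22.real (K : Fin22 H z a V) (x : G) : conj ((V : G → ℂ) x) = (V : G → ℂ) x := by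
  have h1 : (⟨fun x => conj ((V : G → ℂ) x), isIrr_conj V.2⟩ : IrrCharacter G) = V := by
    apply K.uniq
    apply dg_of_eq
    change conj ((V : G → ℂ) 1) = _
    rw [dg_eq, K.dgV, Complex.conj_natCast]
  exact congrFun (congrArg Subtype.val h1) x

theorem Fin22.val (K : Fin22 H z a V) {x : G} (hx : x ∈ H.P) (hx1 : x ≠ 1) :
    (V : G → ℂ) x = -1 := by
  have h1 : V ∈ H.D.NE := mem_NE23 H (by rw [K.dgV]; norm_num)
  rw [H.D.val V h1 x hx hx1]
  rcases mod23_NE H h1 with h2 | h2
  · rw [K.dgV] at h2; omega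
  · rw [h2.1]; norm_num

theorem mul_self_ne_one {x : G} (hx : x ∈ H.P) (hx1 : x ≠ 1) : x * x ≠ 1 := by
  intro h1
  apply hx1
  have h2 : orderOf x ∣ 2 := orderOf_dvd_of_pow_eq_one (by rw [pow_two]; exact h1)
  have h3 : orderOf x ∣ 23 := by
    have := orderOf_dvd_natCard (⟨x, hx⟩ : (H.P : Subgroup G))
    have hP : Nat.card (H.P : Subgroup G) = 23 := H.hP
    rw [hP, ← Subgroup.orderOf_coe] at this
    exact this
  have h4 : orderOf x ∣ 1 := by
    have := Nat.dvd_gcd h2 h3
    rwa [show Nat.gcd 2 23 = 1 from by norm_num] at this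
  exact orderOf_eq_one_iff.1 (Nat.dvd_one.1 h4)

/-- The functional on the squares. -/
theorem Fin22.kk_sq (K : Fin22 H z a V) [Fintype (H.P : Subgroup G)] (e : ℂ) (he : e = 1 ∨ e = -1) :
    (23 : ℂ) * ((fun x : G => ((V : G → ℂ) x ^ 2 + e * (V : G → ℂ) (x * x)) / 2) 1) -
      21 * ∑ x : (H.P : Subgroup G),
        (fun x : G => ((V : G → ℂ) x ^ 2 + e * (V : G → ℂ) (x * x)) / 2) x =
      253 + 253 * e := by
  have h1 := TheoremBCor.sum_const_off (Q := (H.P : Subgroup G))
    (f := fun x => (fun x : G => ((V : G → ℂ) x ^ 2 + e * (V : G → ℂ) (x * x)) / 2) x)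
    (c := (1 - e) / 2) (by
      intro x hx
      have hx' : (x : G) ≠ 1 := fun h' => hx (Subtype.ext h')
      change ((V : G → ℂ) x ^ 2 + e * (V : G → ℂ) (x * x)) / 2 = _
      rw [K.val x.2 hx', K.val (H.P.mul_mem x.2 x.2) (mul_self_ne_one x.2 hx')]
      ring)
  have hP : Nat.card (H.P : Subgroup G) = 23 := H.hP
  rw [hP] at h1
  rw [h1]
  simp only [OneMemClass.coe_one, mul_one]
  rw [dg_eq, K.dgV]
  push_cast
  ring

theorem Fin22.kk_nn (K : Fin22 H z a V) {χ : IrrCharacter G} (hχ : χ ≠ H.D.one) :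
    0 ≤ kk H χ := by
  rcases K.cls χ hχ with h' | h' | h' | h' | h' <;> omega

/-- A character and its coefficients: value of the functional and degree. -/
theorem exists_dec [Fintype G] [Fintype (IrrCharacter G)] [Fintype (H.P : Subgroup G)]
    {φ : G → ℂ} (hφ : IsCharacter G φ) {m : ℤ}
    (hm : (23 : ℂ) * φ 1 - 21 * ∑ x : (H.P : Subgroup G), φ x = m) {n : ℕ} (hn : φ 1 = n) :
    ∃ c : IrrCharacter G → ℕ, (∀ g, φ g = ∑ χ : IrrCharacter G, (c χ : ℂ) * (χ : G → ℂ) g) ∧
      (∀ χ : IrrCharacter G, classInner φ (χ : G → ℂ) = c χ) ∧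
      ∑ χ : IrrCharacter G, (c χ : ℤ) * kk H χ = m ∧
      ∑ χ : IrrCharacter G, c χ * dg χ = n := by
  obtain ⟨c, hc, hc'⟩ := Setup.exists_coeff hφ
  refine ⟨c, hc, hc', sum_kk H hc hm, ?_⟩
  have h1 := hc 1
  rw [hn] at h1
  have h2 : (n : ℂ) = ((∑ χ : IrrCharacter G, c χ * dg χ : ℕ) : ℂ) := by
    rw [h1]; push_cast
    exact Finset.sum_congr rfl fun χ _ => by rw [dg_eq]
  exact_mod_cast h2.symm

/-- The multiplicity of the trivial character. -/
theorem classInner_one [Fintype G] (φ : G → ℂ) :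
    classInner φ (H.D.one : G → ℂ) = (Nat.card G : ℂ)⁻¹ * ∑ g, φ g := by
  rw [classInner_def]
  congr 1
  refine Finset.sum_congr rfl fun g _ => ?_
  rw [H.D.coe_one, Pi.one_apply, map_one, mul_one]

/-- `V` is orthogonal. -/
theorem Fin22.sum_sq (K : Fin22 H z a V) [Fintype G] :
    ∑ g, (V : G → ℂ) (g * g) = Nat.card G := by
  classical
  have := finite_irr (G := G)
  have := Fintype.ofFinite (IrrCharacter G)
  have := Fintype.ofFinite (H.P : Subgroup G)
  obtain ⟨ν, hν, hs⟩ := sum_sq_eq V.2 K.real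
  rcases hν with rfl | rfl
  · rw [hs, one_mul]
  exfalso
  have hG : (Nat.card G : ℂ) ≠ 0 := card_ne_zero_complex
  have hVV : ∑ g, (V : G → ℂ) g ^ 2 = Nat.card G := by
    have h1 := classInner_irr_self V.2
    rw [classInner_def] at h1
    have h2 : ∑ g, (V : G → ℂ) g * conj ((V : G → ℂ) g) = Nat.card G := by
      field_simp at h1
      exact h1
    rw [← h2]
    exact Finset.sum_congr rfl fun g _ => by rw [K.real, pow_two]
  have hL : IsCharacter G (fun g => ((V : G → ℂ) g ^ 2 + (-1) * (V : G → ℂ) (g * g)) / 2) := by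
    have := PermChar.SymAlt.isCharacter_altSq (isIrr_isCharacter V.2)
    convert this using 3
    ring
  obtain ⟨c, hc, hc', hk, hdeg⟩ := exists_dec (H := H) hL (m := 0)
    (by rw [K.kk_sq (-1) (Or.inr rfl)]; norm_num) (n := 231)
    (by simp only [mul_one]; rw [dg_eq, K.dgV]; norm_num)
  have hone : c H.D.one = 1 := by
    have h1 := hc' H.D.one
    rw [classInner_one] at h1
    have h2 : ∑ g, (((V : G → ℂ) g ^ 2 + (-1) * (V : G → ℂ) (g * g)) / 2) =
        (Nat.card G : ℂ) := by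
      rw [← Finset.sum_div, Finset.sum_add_distrib, ← Finset.mul_sum, hVV, hs]
      ring
    rw [h2, inv_mul_cancel₀ hG] at h1
    exact_mod_cast h1.symm
  rw [← Finset.add_sum_erase _ _ (Finset.mem_univ H.D.one), kk_one, hone] at hk
  rw [← Finset.add_sum_erase _ _ (Finset.mem_univ H.D.one), dg_one H, hone] at hdeg
  have ha1 : a ≠ H.D.one := by
    intro h'
    have := K.dga
    rw [h', dg_one H] at this
    omega
  have hma : a ∈ Finset.univ.erase H.D.one := Finset.mem_erase.2 ⟨ha1, Finset.mem_univ _⟩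
  have hcls : ∀ χ : IrrCharacter G, χ ≠ H.D.one → χ ≠ a → kk H χ = 0 ∧ dg χ = 231 ∨
      506 ≤ kk H χ := by
    intro χ h1 h2
    rcases K.cls χ h1 with h' | h' | h' | h' | h'
    · right; omega
    · right; omega
    · left; exact ⟨h'.2, h'.1⟩
    · exact absurd h'.1 h2
    · right; omega
  have hka : kk H a = 460 := by
    rcases K.cls a ha1 with h' | h' | h' | h' | h'
    · have := K.dgV; rw [← h'.1, K.dga] at this; omega
    · have := K.dga; omega
    · have := K.dga; omega
    · exact h'.2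
    · have := K.dga; omega
  have hnn : ∀ χ ∈ Finset.univ.erase H.D.one, 0 ≤ (c χ : ℤ) * kk H χ := fun χ hχ =>
    mul_nonneg (Int.natCast_nonneg _) (K.kk_nn (Finset.ne_of_mem_erase hχ))
  -- no constituent with large `kk`
  have hsmall : ∀ χ : IrrCharacter G, χ ≠ H.D.one → χ ≠ a → c χ = 0 ∨ kk H χ = 0 := by
    intro χ h1 h2
    by_contra h3
    push Not at h3
    have h4 := Finset.single_le_sum hnn (Finset.mem_erase.2 ⟨h1, Finset.mem_univ χ⟩)
    have h5 : 506 ≤ kk H χ := by
      rcases hcls χ h1 h2 with h' | h'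
      · exact absurd h'.1 h3.2
      · exact h'
    have h6 : (1 : ℤ) ≤ c χ := by exact_mod_cast Nat.pos_of_ne_zero h3.1
    have h7 : 506 ≤ (c χ : ℤ) * kk H χ := by nlinarith
    push_cast at hk
    linarith
  rw [← Finset.add_sum_erase _ _ hma, hka, Finset.sum_eq_zero (s := (Finset.univ.erase
    H.D.one).erase a) (by
      intro χ hχ
      have h1 := Finset.mem_erase.1 hχ
      rcases hsmall χ (Finset.ne_of_mem_erase h1.2) h1.1 with h' | h' <;> rw [h'] <;> simp)] at hk
  have hca : c a = 1 := by push_cast at hk; omega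
  rw [← Finset.add_sum_erase _ _ hma, K.dga, hca] at hdeg
  have hzero : ∀ χ : IrrCharacter G, χ ≠ H.D.one → χ ≠ a → c χ = 0 := by
    intro χ h1 h2
    have h3 : ∑ χ ∈ (Finset.univ.erase H.D.one).erase a, c χ * dg χ = 0 := by omega
    have h4 := Finset.sum_eq_zero_iff.1 h3 χ (Finset.mem_erase.2 ⟨h2, Finset.mem_erase.2
      ⟨h1, Finset.mem_univ χ⟩⟩)
    rcases Nat.mul_eq_zero.1 h4 with h5 | h5
    · exact h5
    · exact absurd h5 (dg_ne_zero χ)
  have hz := hc z
  rw [← Finset.add_sum_erase _ _ (Finset.mem_univ H.D.one), ← Finset.add_sum_erase _ _ hma,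
    Finset.sum_eq_zero (s := (Finset.univ.erase H.D.one).erase a) (by
      intro χ hχ
      have h1 := Finset.mem_erase.1 hχ
      rw [hzero χ (Finset.ne_of_mem_erase h1.2) h1.1]; simp), hone, hca, H.D.coe_one, K.va] at hz
  obtain ⟨n, hn⟩ := K.vV
  have hzz : z * z = 1 := by rw [← pow_two, K.hz]
  simp only [hzz, Pi.one_apply] at hz
  rw [hn, dg_eq, K.dgV] at hz
  have h1 : ((n ^ 2 : ℤ) : ℂ) = ((68 : ℤ) : ℂ) := by
    push_cast at hz ⊢
    linear_combination 2 * hz
  have h2 : n ^ 2 = 68 := by exact_mod_cast h1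
  have h3 : n ≤ 8 ∧ -8 ≤ n := by constructor <;> nlinarith
  obtain ⟨h4, h5⟩ := h3
  interval_cases n <;> omega

/-- The alternating square is irreducible. -/
theorem Fin22.isIrr_alt (K : Fin22 H z a V) :
    IsIrrCharacter G (fun g => ((V : G → ℂ) g ^ 2 - (V : G → ℂ) (g * g)) / 2) := by
  classical
  have := Fintype.ofFinite G
  have := finite_irr (G := G)
  have := Fintype.ofFinite (IrrCharacter G)
  have := Fintype.ofFinite (H.P : Subgroup G)
  have hG : (Nat.card G : ℂ) ≠ 0 := card_ne_zero_complex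
  have hVV : ∑ g, (V : G → ℂ) g ^ 2 = Nat.card G := by
    have h1 := classInner_irr_self V.2
    rw [classInner_def] at h1
    have h2 : ∑ g, (V : G → ℂ) g * conj ((V : G → ℂ) g) = Nat.card G := by
      field_simp at h1
      exact h1
    rw [← h2]
    exact Finset.sum_congr rfl fun g _ => by rw [K.real, pow_two]
  have hL : IsCharacter G (fun g => ((V : G → ℂ) g ^ 2 - (V : G → ℂ) (g * g)) / 2) :=
    PermChar.SymAlt.isCharacter_altSq (isIrr_isCharacter V.2)
  have heq : (fun g => ((V : G → ℂ) g ^ 2 - (V : G → ℂ) (g * g)) / 2) =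
      (fun g => ((V : G → ℂ) g ^ 2 + (-1) * (V : G → ℂ) (g * g)) / 2) := by
    funext g; ring
  rw [heq] at hL ⊢
  obtain ⟨c, hc, hc', hk, hdeg⟩ := exists_dec (H := H) hL (m := 0)
    (by rw [K.kk_sq (-1) (Or.inr rfl)]; norm_num) (n := 231)
    (by simp only [mul_one]; rw [dg_eq, K.dgV]; norm_num)
  have hone : c H.D.one = 0 := by
    have h1 := hc' H.D.one
    rw [classInner_one] at h1
    have h2 : ∑ g, (((V : G → ℂ) g ^ 2 + (-1) * (V : G → ℂ) (g * g)) / 2) = 0 := by
      rw [← Finset.sum_div, Finset.sum_add_distrib, ← Finset.mul_sum, hVV, K.sum_sq]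
      ring
    rw [h2, mul_zero] at h1
    exact_mod_cast h1.symm
  have hnn : ∀ χ ∈ Finset.univ, 0 ≤ (c χ : ℤ) * kk H χ := by
    intro χ _
    by_cases h1 : χ = H.D.one
    · rw [h1, hone]; simp
    · exact mul_nonneg (Int.natCast_nonneg _) (K.kk_nn h1)
  have h231 : ∀ χ : IrrCharacter G, c χ ≠ 0 → dg χ = 231 := by
    intro χ h1
    have h2 := (Finset.sum_eq_zero_iff_of_nonneg hnn).1 hk χ (Finset.mem_univ χ)
    have h3 : χ ≠ H.D.one := fun h' => h1 (by rw [h', hone])
    rcases mul_eq_zero.1 h2 with h4 | h4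
    · exact absurd (by exact_mod_cast h4) h1
    · rcases K.cls χ h3 with h' | h' | h' | h' | h' <;> omega
  obtain ⟨ψ, hψ⟩ : ∃ ψ, c ψ ≠ 0 := by
    by_contra h1
    push Not at h1
    rw [Finset.sum_eq_zero (fun χ _ => by rw [h1 χ, zero_mul])] at hdeg
    omega
  rw [← Finset.add_sum_erase _ _ (Finset.mem_univ ψ), h231 ψ hψ] at hdeg
  have hcψ : c ψ = 1 := by
    have : 1 ≤ c ψ := Nat.pos_of_ne_zero hψ
    omega
  have h3 : ∑ χ ∈ Finset.univ.erase ψ, c χ * dg χ = 0 := by rw [hcψ] at hdeg; omega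
  have hfin : (fun g => ((V : G → ℂ) g ^ 2 + (-1) * (V : G → ℂ) (g * g)) / 2) = (ψ : G → ℂ) := by
    funext g
    have h4 := hc g
    rw [← Finset.add_sum_erase _ _ (Finset.mem_univ ψ), hcψ, Finset.sum_eq_zero (by
      intro χ hχ
      have h5 := Finset.sum_eq_zero_iff.1 h3 χ hχ
      rcases Nat.mul_eq_zero.1 h5 with h6 | h6
      · rw [h6]; simp
      · exact absurd h6 (dg_ne_zero χ))] at h4
    rw [h4]; simp
  rw [hfin]
  exact ψ.2

/-- `V` is a constituent of its symmetric square. -/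
theorem Fin22.sum_ne_zero (K : Fin22 H z a V) [Fintype G] :
    ∑ g, ((V : G → ℂ) g ^ 2 + (V : G → ℂ) (g * g)) * (V : G → ℂ) g ≠ 0 := by
  classical
  have := finite_irr (G := G)
  have := Fintype.ofFinite (IrrCharacter G)
  have := Fintype.ofFinite (H.P : Subgroup G)
  have hG : (Nat.card G : ℂ) ≠ 0 := card_ne_zero_complex
  have hVV : ∑ g, (V : G → ℂ) g ^ 2 = Nat.card G := by
    have h1 := classInner_irr_self V.2
    rw [classInner_def] at h1
    have h2 : ∑ g, (V : G → ℂ) g * conj ((V : G → ℂ) g) = Nat.card G := by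
      field_simp at h1
      exact h1
    rw [← h2]
    exact Finset.sum_congr rfl fun g _ => by rw [K.real, pow_two]
  have hL : IsCharacter G (fun g => ((V : G → ℂ) g ^ 2 + 1 * (V : G → ℂ) (g * g)) / 2) := by
    have := PermChar.SymAlt.isCharacter_symSq (isIrr_isCharacter V.2)
    convert this using 3
    ring
  obtain ⟨c, hc, hc', hk, hdeg⟩ := exists_dec (H := H) hL (m := 506)
    (by rw [K.kk_sq 1 (Or.inl rfl)]; norm_num) (n := 253)
    (by simp only [mul_one]; rw [dg_eq, K.dgV]; norm_num)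
  have hone : c H.D.one = 1 := by
    have h1 := hc' H.D.one
    rw [classInner_one] at h1
    have h2 : ∑ g, (((V : G → ℂ) g ^ 2 + 1 * (V : G → ℂ) (g * g)) / 2) = (Nat.card G : ℂ) := by
      rw [← Finset.sum_div, Finset.sum_add_distrib, ← Finset.mul_sum, hVV, K.sum_sq]
      ring
    rw [h2, inv_mul_cancel₀ hG] at h1
    exact_mod_cast h1.symm
  rw [← Finset.add_sum_erase _ _ (Finset.mem_univ H.D.one), kk_one, hone] at hk
  rw [← Finset.add_sum_erase _ _ (Finset.mem_univ H.D.one), dg_one H, hone] at hdeg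
  have hcV : c V ≠ 0 := by
    intro hcV
    have hdvd : (92 : ℤ) ∣ ∑ χ ∈ Finset.univ.erase H.D.one, (c χ : ℤ) * kk H χ := by
      refine Finset.dvd_sum fun χ hχ => ?_
      by_cases h0 : c χ = 0
      · rw [h0]; simp
      have hle : c χ * dg χ ≤ ∑ χ ∈ Finset.univ.erase H.D.one, c χ * dg χ :=
        Finset.single_le_sum (f := fun χ => c χ * dg χ) (fun _ _ => Nat.zero_le _) hχ
      rcases K.cls χ (Finset.ne_of_mem_erase hχ) with h' | h' | h' | h' | h'
      · exact absurd (by rw [h'.1, hcV]) h0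
      · rw [h'.2]; exact Dvd.dvd.mul_left (by norm_num) _
      · rw [h'.2]; simp
      · rw [h'.2]; exact Dvd.dvd.mul_left (by norm_num) _
      · exfalso
        have h1 : 1 ≤ c χ := Nat.pos_of_ne_zero h0
        have h2 : 253 ≤ c χ * dg χ := by nlinarith [h'.1]
        omega
    push_cast at hk
    omega
  intro h0
  have h1 := hc' V
  rw [classInner_def] at h1
  have h2 : ∑ g, ((V : G → ℂ) g ^ 2 + 1 * (V : G → ℂ) (g * g)) / 2 * conj ((V : G → ℂ) g) = 0 := by
    have h3 : ∑ g, ((V : G → ℂ) g ^ 2 + 1 * (V : G → ℂ) (g * g)) / 2 * conj ((V : G → ℂ) g) =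
        (∑ g, ((V : G → ℂ) g ^ 2 + (V : G → ℂ) (g * g)) * (V : G → ℂ) g) / 2 := by
      rw [Finset.sum_div]
      exact Finset.sum_congr rfl fun g _ => by rw [K.real]; ring
    rw [h3, h0, zero_div]
  rw [h2, mul_zero] at h1
  exact hcV (by exact_mod_cast h1.symm)

omit [IsSimpleGroup G] in
/-- The subgroup of index 23. -/
theorem exists_index (H : Hyp G) [IsSimpleGroup G] : ∃ K : Subgroup G, K.index = 23 := by
  classical
  have := Fintype.ofFinite G
  obtain ⟨z, a, V, K⟩ := exists_fin22 H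
  obtain ⟨φ, hφ⟩ := PermChar.PermCor.exists_perm_of_alt_irr V.2 K.real K.sum_sq K.sum_ne_zero
    K.isIrr_alt 23 (by rw [dg_eq, K.dgV]; norm_num) (by norm_num)
  have h1 : ∑ g, (V : G → ℂ) g = 0 := by
    have hne : (V : G → ℂ) ≠ 1 := by
      intro h'
      have h2 := congrFun h' 1
      rw [dg_eq, K.dgV, Pi.one_apply] at h2
      norm_num at h2
    have h := PermChar.PermCor.sum_eq_of_classInner (f := (V : G → ℂ)) (ψ := (1 : G → ℂ))
      (fun g => map_one _)
    rw [classInner_irr_ne V.2 isIrr_one hne, mul_zero] at h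
    simpa using h
  letI := MulAction.compHom (Fin 23) φ
  have h2 := PermChar.PermTrans.isPretransitive (X := Fin 23) hφ h1
  have h3 : MulAction.IsPretransitive G (Fin 23) := by
    have := MulAction.is_one_pretransitive_iff (G := G) (α := Fin 23)
    exact this.1 h2
  refine ⟨MulAction.stabilizer G (0 : Fin 23), ?_⟩
  rw [MulAction.index_stabilizer_of_transitive]
  simp

end Cfsg.Agent.M23Order.Final
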