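import Cfsg.Agent.M23Order.Eleven
import Cfsg.Agent.SmallSimple.BurnsideNC
import Cfsg.Agent.SmallSimple.Simple168Max

/-!
# The principal 5-block
-/

set_option autoImplicit false
set_option linter.unusedSectionVars false

open Cfsg Subgroup
open Cfsg.Agent.Characters.Core
open Cfsg.Agent.SmallSimple
open Cfsg.Agent.M23Order.Base
open Cfsg.Agent.M23Order.Setup
open Cfsg.Agent.M23Order.Eleven
open scoped ComplexConjugate

namespace Cfsg.Agent.M23Order.Five

universe u

/-- signed degrees `≡ 1` modulo 5 -/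
def L5 : List ℤ := [-2024, -759, -644, -264, 231, 276, 506, 736, 896, 1656, 1771, 3036]

theorem arith_L5 : ∀ d ∈ A, d ≠ 1 → d ≠ 11 → d ≠ 126 → (d % 5 = 1 → (d : ℤ) ∈ L5) ∧
    (d % 5 = 4 → (-(d : ℤ)) ∈ L5) := by
  decide

theorem arith_five : ∀ s₁ ∈ L5, ∀ s₂ ∈ L5, s₁ ≤ s₂ → ∀ s₃ ∈ L5, s₂ ≤ s₃ →
    -(1 + s₁ + s₂ + s₃) ∈ L5 →
    ((s₁.natAbs = 644 ∨ s₂.natAbs = 644 ∨ s₃.natAbs = 644 ∨ (1 + s₁ + s₂ + s₃).natAbs = 644) ∧
     (s₁.natAbs = 896 ∨ s₂.natAbs = 896 ∨ s₃.natAbs = 896 ∨ (1 + s₁ + s₂ + s₃).natAbs = 896)) ∨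
    (s₁ = -2024 ∧ s₂ = 231 ∧ s₃ = 896) ∨ (s₁ = -2024 ∧ s₂ = 896 ∧ s₃ = 896) ∨
    (s₁ = 231 ∧ s₂ = 896 ∧ s₃ = 896) := by
  decide +kernel

/-- signed degrees `≡ 1` modulo 5, `e = 2` -/
theorem arith_two : ∀ s ∈ L5, (1 + s).natAbs ∉ A := by decide

variable {G : Type u} [Group G] [Finite G] [IsSimpleGroup G] (H : Hyp G)

include H

theorem exists_five : ∃ a b c d : IrrCharacter G, dg a = 231 ∧ dg b = 896 ∧ dg c = 896 ∧
    dg d = 2024 ∧ b ≠ c ∧ ∀ g : G, ¬ 5 ∣ orderOf g →
      1 + (a : G → ℂ) g + (b : G → ℂ) g + (c : G → ℂ) g = (d : G → ℂ) g := by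
  classical
  have h5 : Fact (Nat.Prime 5) := ⟨by norm_num⟩
  obtain ⟨R⟩ : Nonempty (Sylow 5 G) := inferInstance
  have hR : Nat.card R = 5 := by
    refine Simple168Max.card_sylow_eq_prime R ?_ ?_ <;> rw [H.hcard] <;> norm_num
  obtain ⟨M, hM⟩ := Blocks.ExistsModular.exists_isPModular (p := 5) (by norm_num)
  obtain ⟨e, he⟩ : ∃ e, (centralizer (R : Set G)).relIndex (normalizer (R : Set G)) = e := ⟨_, rfl⟩
  have he4 : e ∣ 4 := by rw [← he]; exact BurnsideNC.relIndex_dvd_of_card_eq_prime R hR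
  have he1 : e ≠ 1 := by
    rw [← he]
    exact BurnsideNC.relIndex_ne_one (by rw [H.hcard]; norm_num) (by rw [H.hcard]; norm_num) R
  have he' : e = 2 ∨ e = 4 := by
    have : e ≤ 4 := Nat.le_of_dvd (by norm_num) he4
    interval_cases e <;> omega
  have hone : ∀ {t : ℕ} (B : DegreeData.BlockData 5 M R e t), B.one = H.D.one := by
    intro t B
    apply Subtype.ext
    rw [B.coe_one, H.D.coe_one]
  have hdeg : ∀ {t : ℕ} (B : DegreeData.BlockData 5 M R e t), ∀ χ ∈ B.l,
      B.ε χ * (dg χ : ℤ) ∈ L5 := by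
    intro t B χ hχ
    have hχ1 : χ ≠ H.D.one := by
      rw [← hone B]
      rintro rfl
      exact (List.nodup_cons.1 B.nodup).1 hχ
    have hA := arith_L5 _ (dg_mem_A H χ) (fun h => hχ1 (eq_one_of_dg H h)) (dg_ne_eleven H χ)
      (dg_ne_126 H χ)
    have h1 : B.ε χ * (dg χ : ℤ) ≡ 1 [ZMOD 5] := B.sd_modEq hR (List.mem_cons_of_mem _ hχ)
    rcases B.ε_mem χ (List.mem_cons_of_mem _ hχ) with h | h
    · rw [h, one_mul] at h1 ⊢
      exact hA.1 (by have := Int.emod_emod_of_dvd; have := h1.dvd; omega)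
    · rw [h, neg_one_mul] at h1 ⊢
      exact hA.2 (by have := h1.dvd; omega)
  rcases he' with rfl | rfl
  · exfalso
    obtain ⟨B⟩ := DegreeData.exists_blockData 5 (by norm_num) M hM R hR 2 2 he (by norm_num)
    obtain ⟨χ, hl⟩ : ∃ χ, B.l = [χ] := List.length_eq_one_iff.1 (by have := B.length; omega)
    have h1 := B.dexc_eq (by norm_num)
    have h2 := hdeg B χ (by rw [hl]; simp)
    obtain ⟨Θ, hΘ⟩ := B.exists_X (by norm_num)
    have h3 : B.degs.sum = B.ε χ * (dg χ : ℤ) := by
      rw [DegreeData.BlockData.degs, hl]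
      simp [DegreeData.BlockData.sd, dg]
    rw [h3] at h1
    apply arith_two _ h2
    rw [h1, B.natAbs_dexc, ← B.deg_X Θ hΘ]
    exact dg_mem_A H Θ
  · obtain ⟨B⟩ := DegreeData.exists_blockData 5 (by norm_num) M hM R hR 4 1 he (by norm_num)
    obtain ⟨x, y, z, hl⟩ : ∃ x y z, B.l = [x, y, z] :=
      List.length_eq_three.1 (by have := B.length; omega)
    obtain ⟨Θ, hΘ⟩ := B.exists_X (by norm_num)
    have hΘ1 : Θ ≠ H.D.one := by
      rintro rfl
      rw [← hone B] at hΘ
      exact B.notMem_X _ List.mem_cons_self hΘ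
    have hx := hdeg B x (by rw [hl]; simp)
    have hy := hdeg B y (by rw [hl]; simp)
    have hz := hdeg B z (by rw [hl]; simp)
    have h1 := B.dexc_eq (by norm_num)
    have h3 : B.degs.sum = B.ε x * (dg x : ℤ) + B.ε y * (dg y : ℤ) + B.ε z * (dg z : ℤ) := by
      rw [DegreeData.BlockData.degs, hl]
      simp [DegreeData.BlockData.sd, dg]
      ring
    have hsort := B.degs_sorted
    rw [DegreeData.BlockData.degs, hl] at hsort
    simp only [List.map_cons, List.map_nil, List.pairwise_cons, List.mem_cons, List.not_mem_nil,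
      or_false, forall_eq_or_imp, forall_eq, IsEmpty.forall_iff, implies_true, List.Pairwise.nil,
      and_true, false_imp_iff] at hsort
    have hT : -(B.dexc) ∈ L5 := by
      have hA := arith_L5 _ (dg_mem_A H Θ) (fun h => hΘ1 (eq_one_of_dg H h)) (dg_ne_eleven H Θ)
        (dg_ne_126 H Θ)
      have h4 : B.dexc ≡ 4 [ZMOD 5] := B.dexc_modEq hR (by norm_num)
      rw [DegreeData.BlockData.dexc, ← B.deg_X Θ hΘ] at h4 ⊢
      change B.d * (dg Θ : ℤ) ≡ 4 [ZMOD 5] at h4
      change -(B.d * (dg Θ : ℤ)) ∈ L5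
      rcases B.d_mem with h | h
      · rw [h, one_mul] at h4 ⊢
        exact hA.2 (by have := h4.dvd; omega)
      · rw [h, neg_one_mul] at h4 ⊢
        rw [neg_neg]
        exact hA.1 (by have := h4.dvd; omega)
    have hrel := B.rel Θ hΘ
    rw [hl] at hrel
    simp only [List.map_cons, List.map_nil, List.sum_cons, List.sum_nil] at hrel
    have hnd := B.nodup
    rw [hl] at hnd
    simp only [List.nodup_cons, List.mem_cons, List.not_mem_nil, or_false, not_or] at hnd
    have hnX : ∀ χ ∈ [x, y, z], χ ≠ Θ := by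
      intro χ hχ h
      refine B.notMem_X χ (List.mem_cons_of_mem _ ?_) (h ▸ hΘ)
      rw [hl]; exact hχ
    have hdx : (B.ε x * (dg x : ℤ)).natAbs = dg x := by
      rcases B.ε_mem x (by rw [hl]; simp) with h | h <;> rw [h] <;> simp
    have hdy : (B.ε y * (dg y : ℤ)).natAbs = dg y := by
      rcases B.ε_mem y (by rw [hl]; simp) with h | h <;> rw [h] <;> simp
    have hdz : (B.ε z * (dg z : ℤ)).natAbs = dg z := by
      rcases B.ε_mem z (by rw [hl]; simp) with h | h <;> rw [h] <;> simp
    have hdT : (B.dexc).natAbs = dg Θ := by rw [B.natAbs_dexc, ← B.deg_X Θ hΘ]; rfl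
    have hεx := B.ε_mem x (by rw [hl]; simp)
    have hεy := B.ε_mem y (by rw [hl]; simp)
    have hεz := B.ε_mem z (by rw [hl]; simp)
    have hdd := B.d_mem
    rw [h3] at h1
    have h1' : 1 + B.ε x * (dg x : ℤ) + B.ε y * (dg y : ℤ) + B.ε z * (dg z : ℤ) = B.dexc := by
      rw [← h1]; ring
    have key := arith_five _ hx _ hy hsort.1.1 _ hz hsort.2 (by rw [h1']; exact hT)
    rw [h1', hdx, hdy, hdz, hdT] at key
    rcases key with ⟨k1, k2⟩ | ⟨k1, k2, k3⟩ | ⟨k1, k2, k3⟩ | ⟨k1, k2, k3⟩
    · exfalso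
      have h644 : ∃ χ : IrrCharacter G, dg χ = 644 := by
        rcases k1 with h | h | h | h
        exacts [⟨_, h⟩, ⟨_, h⟩, ⟨_, h⟩, ⟨_, h⟩]
      have h896 : ∃ χ : IrrCharacter G, dg χ = 896 := by
        rcases k2 with h | h | h | h
        exacts [⟨_, h⟩, ⟨_, h⟩, ⟨_, h⟩, ⟨_, h⟩]
      obtain ⟨χ, hχ⟩ := h644
      obtain ⟨ψ, hψ⟩ := h896
      have := compat11 H (χ := χ) (ψ := ψ) (by rw [hχ]; norm_num) (by rw [hψ]; norm_num)
      omega
    · rw [k1] at hdx; rw [k2] at hdy; rw [k3] at hdz
      have hT' : B.dexc = -896 := by rw [← h1', k1, k2, k3]; norm_num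
      rw [hT'] at hdT
      have ex : B.ε x = -1 := by
        rcases hεx with h | h
        · rw [h] at k1; omega
        · exact h
      have ey : B.ε y = 1 := by
        rcases hεy with h | h
        · exact h
        · rw [h] at k2; omega
      have ez : B.ε z = 1 := by
        rcases hεz with h | h
        · exact h
        · rw [h] at k3; omega
      have ed : B.d = -1 := by
        rcases hdd with h | h
        · rw [DegreeData.BlockData.dexc, h] at hT'; omega
        · exact h
      refine ⟨y, z, Θ, x, ?_, ?_, ?_, ?_, hnX z (by simp), fun g hg => ?_⟩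
      · omega
      · omega
      · omega
      · omega
      · have := hrel g hg
        rw [ex, ey, ez, ed] at this
        push_cast at this
        linear_combination this
    · rw [k1] at hdx; rw [k2] at hdy; rw [k3] at hdz
      have hT' : B.dexc = -231 := by rw [← h1', k1, k2, k3]; norm_num
      rw [hT'] at hdT
      have ex : B.ε x = -1 := by
        rcases hεx with h | h
        · rw [h] at k1; omega
        · exact h
      have ey : B.ε y = 1 := by
        rcases hεy with h | h
        · exact h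
        · rw [h] at k2; omega
      have ez : B.ε z = 1 := by
        rcases hεz with h | h
        · exact h
        · rw [h] at k3; omega
      have ed : B.d = -1 := by
        rcases hdd with h | h
        · rw [DegreeData.BlockData.dexc, h] at hT'; omega
        · exact h
      refine ⟨Θ, y, z, x, ?_, ?_, ?_, ?_, hnd.2.2.1, fun g hg => ?_⟩
      · omega
      · omega
      · omega
      · omega
      · have := hrel g hg
        rw [ex, ey, ez, ed] at this
        push_cast at this
        linear_combination this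
    · rw [k1] at hdx; rw [k2] at hdy; rw [k3] at hdz
      have hT' : B.dexc = 2024 := by rw [← h1', k1, k2, k3]; norm_num
      rw [hT'] at hdT
      have ex : B.ε x = 1 := by
        rcases hεx with h | h
        · exact h
        · rw [h] at k1; omega
      have ey : B.ε y = 1 := by
        rcases hεy with h | h
        · exact h
        · rw [h] at k2; omega
      have ez : B.ε z = 1 := by
        rcases hεz with h | h
        · exact h
        · rw [h] at k3; omega
      have ed : B.d = 1 := by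
        rcases hdd with h | h
        · exact h
        · rw [DegreeData.BlockData.dexc, h] at hT'; omega
      refine ⟨x, y, z, Θ, ?_, ?_, ?_, ?_, hnd.2.2.1, fun g hg => ?_⟩
      · omega
      · omega
      · omega
      · omega
      · have := hrel g hg
        rw [ex, ey, ez, ed] at this
        push_cast at this
        linear_combination this

end Cfsg.Agent.M23Order.Five
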