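import Cfsg.Agent.M23Order.Five

/-!
# A 2-central involution
-/

set_option autoImplicit false
set_option linter.unusedSectionVars false

open Cfsg Subgroup
open Cfsg.Agent.Characters.Core
open Cfsg.Agent.SmallSimple
open Cfsg.Agent.M23Order.Base
open Cfsg.Agent.M23Order.Setup
open Cfsg.Agent.M23Order.Eleven
open scoped ComplexConjugate

namespace Cfsg.Agent.M23Order.Invol

universe u

variable {G : Type u} [Group G] [Finite G]

/-- The centralizer of an involution has order prime to `p` if a Sylow `p`-subgroup of order `p` is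
self-centralizing. -/
theorem not_dvd_card_centralizer {p : ℕ} [hp : Fact p.Prime] (hp2 : p ≠ 2) (P : Sylow p G)
    (hP : Nat.card P = p) (hC : centralizer (P : Set G) = (P : Subgroup G)) {z : G}
    (hz : z ^ 2 = 1) (hz1 : z ≠ 1) : ¬ p ∣ Nat.card (centralizer ({z} : Set G)) := by
  intro h
  obtain ⟨x, hx⟩ := exists_prime_orderOf_dvd_card' p h
  have hx' : orderOf (x : G) = p := by rw [← hx]; exact Subgroup.orderOf_coe x
  have hpg : IsPGroup p (zpowers (x : G)) :=
    IsPGroup.of_card (n := 1) (by rw [Nat.card_zpowers, hx', pow_one])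
  obtain ⟨Q, hQ⟩ := hpg.exists_le_sylow
  obtain ⟨g, hg⟩ := MulAction.exists_smul_eq G Q P
  have hxQ : (x : G) ∈ (Q : Subgroup G) := hQ (mem_zpowers _)
  have hy : g * (x : G) * g⁻¹ ∈ (P : Subgroup G) := by
    rw [← hg]
    exact ⟨x, hxQ, rfl⟩
  have hy1 : g * (x : G) * g⁻¹ ≠ 1 := by
    intro h1
    rw [conj_eq_one_iff] at h1
    rw [h1, orderOf_one] at hx'
    exact hp.out.one_lt.ne hx'
  have hcomm : g * z * g⁻¹ ∈ centralizer ({g * (x : G) * g⁻¹} : Set G) := by
    rw [mem_centralizer_singleton_iff]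
    have h2 : (x : G) * z = z * x := (mem_centralizer_singleton_iff.1 x.2)
    calc g * z * g⁻¹ * (g * (x : G) * g⁻¹) = g * (z * x) * g⁻¹ := by group
      _ = g * (x * z) * g⁻¹ := by rw [h2]
      _ = g * (x : G) * g⁻¹ * (g * z * g⁻¹) := by group
  rw [Blocks.CyclicOrtho.centralizer_eq P hP hy hy1] at hcomm
  have hC' : centralizer ((P : Subgroup G) : Set G) = (P : Subgroup G) := hC
  rw [hC'] at hcomm
  have h3 : orderOf (g * z * g⁻¹) ∣ p := by
    have := orderOf_dvd_natCard (⟨_, hcomm⟩ : (P : Subgroup G))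
    have hP' : Nat.card (P : Subgroup G) = p := hP
    rw [hP'] at this
    rwa [← Subgroup.orderOf_coe] at this
  have h4 : orderOf (g * z * g⁻¹) ∣ 2 := orderOf_dvd_of_pow_eq_one (by
    rw [conj_pow, hz]; group)
  have h5 : orderOf (g * z * g⁻¹) ∣ 1 := by
    have := Nat.dvd_gcd h3 h4
    rwa [(Nat.coprime_primes hp.out Nat.prime_two).2 hp2] at this
  have h6 := orderOf_eq_one_iff.1 (Nat.dvd_one.1 h5)
  rw [conj_eq_one_iff] at h6
  exact hz1 h6

/-- A 2-central involution. -/
theorem exists_central (T : Sylow 2 G) (hT : Nontrivial T) : ∃ z : G, z ^ 2 = 1 ∧ z ≠ 1 ∧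
    (T : Subgroup G) ≤ centralizer ({z} : Set G) := by
  have hpg : IsPGroup 2 (T : Subgroup G) := T.isPGroup'
  have hc := hpg.center_nontrivial
  have hc2 : IsPGroup 2 (center (T : Subgroup G)) := hpg.to_subgroup _
  obtain ⟨n, hn, hn'⟩ := hc2.nontrivial_iff_card.1 hc
  have h2 : 2 ∣ Nat.card (center (T : Subgroup G)) := by
    rw [hn']; exact dvd_pow_self 2 hn.ne'
  obtain ⟨z, hz⟩ := exists_prime_orderOf_dvd_card' 2 h2
  have hzG : orderOf ((z : (T : Subgroup G)) : G) = 2 := by
    rw [Subgroup.orderOf_coe, Subgroup.orderOf_coe, hz]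
  refine ⟨((z : (T : Subgroup G)) : G), ?_, ?_, ?_⟩
  · have h3 := pow_orderOf_eq_one ((z : (T : Subgroup G)) : G)
    rwa [hzG] at h3
  · intro h
    rw [h, orderOf_one] at hzG
    omega
  · intro t ht
    rw [mem_centralizer_singleton_iff]
    exact congrArg Subtype.val (mem_center_iff.1 z.2 ⟨t, ht⟩)

variable [IsSimpleGroup G] (H : Hyp G)

include H

theorem exists_invol : ∃ z : G, z ^ 2 = 1 ∧ z ≠ 1 ∧ ∃ s : ℕ,
    (centralizer ({z} : Set G)).index = 253 * s ∧ s ∣ 315 ∧
      Nat.card (centralizer ({z} : Set G)) * s = 40320 := by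
  have : Fact (Nat.Prime 2) := ⟨Nat.prime_two⟩
  have : Fact (Nat.Prime 23) := ⟨by norm_num⟩
  have : Fact (Nat.Prime 11) := ⟨by norm_num⟩
  obtain ⟨T⟩ : Nonempty (Sylow 2 G) := inferInstance
  have h128 : 128 ∣ Nat.card (T : Subgroup G) := by
    have : 2 ^ 7 ∣ Nat.card (T : Subgroup G) :=
      T.pow_dvd_card_of_pow_dvd_card (by rw [H.hcard]; norm_num)
    simpa using this
  have hT : Nontrivial T := by
    rw [← Finite.one_lt_card_iff_nontrivial]
    have h1 : 0 < Nat.card (T : Subgroup G) := Nat.card_pos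
    have h2 := Nat.le_of_dvd h1 h128
    change 1 < Nat.card (T : Subgroup G)
    omega
  obtain ⟨z, hz, hz1, hTz⟩ := exists_central T hT
  refine ⟨z, hz, hz1, ?_⟩
  have hmul := (centralizer ({z} : Set G)).card_mul_index
  rw [H.hcard] at hmul
  have h1 : 128 ∣ Nat.card (centralizer ({z} : Set G)) := h128.trans (card_dvd_of_le hTz)
  have h23 := not_dvd_card_centralizer (by norm_num) H.P H.hP H.hCP hz hz1
  have h11 := not_dvd_card_centralizer (by norm_num) H.Q H.hQ H.hCQ hz hz1
  generalize Nat.card (centralizer ({z} : Set G)) = c at *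
  generalize (centralizer ({z} : Set G)).index = i at *
  have hi23 : 23 ∣ i := by
    have h : 23 ∣ c * i := by rw [hmul]; norm_num
    exact ((Nat.Prime.dvd_mul (by norm_num)).1 h).resolve_left h23
  have hi11 : 11 ∣ i := by
    have h : 11 ∣ c * i := by rw [hmul]; norm_num
    exact ((Nat.Prime.dvd_mul (by norm_num)).1 h).resolve_left h11
  have hi : 253 ∣ i := by
    have := Nat.Coprime.mul_dvd_of_dvd_of_dvd (by norm_num : Nat.Coprime 11 23) hi11 hi23
    simpa using this
  obtain ⟨s, rfl⟩ := hi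
  obtain ⟨c', rfl⟩ := h1
  have h2 : c' * s = 315 := by
    have h3 : 32384 * (c' * s) = 32384 * 315 := by
      calc 32384 * (c' * s) = 128 * c' * (253 * s) := by ring
        _ = 32384 * 315 := by rw [hmul]
    exact Nat.eq_of_mul_eq_mul_left (by norm_num) h3
  exact ⟨s, rfl, ⟨c', by rw [← h2]; ring⟩, by norm_num [mul_assoc, h2]⟩

end Cfsg.Agent.M23Order.Invol
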