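import Cfsg.Agent.M23Order.ColumnEleven

/-!
# The principal 23-block
-/

set_option autoImplicit false
set_option linter.unusedSectionVars false

open Cfsg Subgroup
open Cfsg.Agent.Characters.Core
open Cfsg.Agent.SmallSimple
open Cfsg.Agent.M23Order.Base
open Cfsg.Agent.M23Order.Setup
open Cfsg.Agent.M23Order.Eleven
open Cfsg.Agent.M23Order.Five
open Cfsg.Agent.M23Order.Invol
open Cfsg.Agent.M23Order.Column
open Cfsg.Agent.M23Order.ColumnEleven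
open scoped ComplexConjugate

namespace Cfsg.Agent.M23Order.TwentyThree

universe u

section Arith

/-- signed degrees of the remaining five characters of the principal 23-block -/
def T : List ℤ := [-1540, -528, -22, 231, 990]

/-- signed degrees of the exceptional characters -/
def F : List ℤ := [264, 770, -495, -1760, -2772]

theorem arith_T : ∀ d ∈ A, d ≠ 1 → d % 11 = 0 → (d % 23 = 1 → (d : ℤ) ∈ T) ∧
    (d % 23 = 22 → (-(d : ℤ)) ∈ T) := by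
  decide

theorem arith_F : ∀ d ∈ A, d ≠ 11 → d % 11 = 0 → (d % 23 = 11 → (d : ℤ) ∈ F) ∧
    (d % 23 = 12 → (-(d : ℤ)) ∈ F) := by
  decide

/-- the eight degree patterns -/
def cases : List (List ℤ) :=
  [[-528, 231, 231, 990, 990, 264], [231, 231, 231, 231, 990, 264], [-22, -22, -22, 990, 990, 264],
   [-22, 231, 231, 990, 990, 770], [-528, -528, 231, 990, 990, -495],
   [-528, 231, 231, 231, 990, -495], [231, 231, 231, 231, 231, -495],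
   [-22, -22, -22, 231, 990, -495]]

theorem arith_cases : ∀ s₁ ∈ T, ∀ s₂ ∈ T, s₁ ≤ s₂ → ∀ s₃ ∈ T, s₂ ≤ s₃ → ∀ s₄ ∈ T, s₃ ≤ s₄ →
    ∀ s₅ ∈ T, s₄ ≤ s₅ → ∀ f ∈ F, -1650 + (s₁ + s₂ + s₃ + s₄ + s₅) = f →
    s₁ * s₁ + s₂ * s₂ + s₃ * s₃ + s₄ * s₄ + s₅ * s₅ + 2 * (f * f) ≤ 3317215 →
    [s₁, s₂, s₃, s₄, s₅, f] ∈ cases := by
  decide +kernel

/-- values of a character of degree 528 -/
def V528 : List ℤ := [-32, -16, 0, 16, 32]

/-- values of a character of degree 231 -/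
def V231 : List ℤ := [-21, 7, 35]

/-- values of a character of degree 990 -/
def V990 : List ℤ := [-30, -18, -6, 6, 18, 30]

theorem mem_V528 {x : ℤ} (h : x ^ 2 ≤ 1343) (h1 : (528 : ℤ) ∣ 253 * 15 * x) : x ∈ V528 := by
  have h2 : -36 ≤ x ∧ x ≤ 36 := by constructor <;> nlinarith
  simp only [V528, List.mem_cons, List.not_mem_nil, or_false]
  omega

theorem mem_V231 {x : ℤ} (h : x ^ 2 ≤ 1343) (h1 : (231 : ℤ) ∣ 253 * 15 * x)
    (h3 : (4 : ℤ) ∣ 231 - x) : x ∈ V231 := by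
  have h2 : -36 ≤ x ∧ x ≤ 36 := by constructor <;> nlinarith
  simp only [V231, List.mem_cons, List.not_mem_nil, or_false]
  omega

theorem mem_V990 {x : ℤ} (h : x ^ 2 ≤ 1343) (h1 : (990 : ℤ) ∣ 253 * 15 * x)
    (h3 : (4 : ℤ) ∣ 990 - x) : x ∈ V990 := by
  have h2 : -36 ≤ x ∧ x ≤ 36 := by constructor <;> nlinarith
  simp only [V990, List.mem_cons, List.not_mem_nil, or_false]
  omega

theorem case1 : ∀ u ∈ V528, ∀ t₁ ∈ V231, ∀ t₂ ∈ V231, ∀ k₁ ∈ V990, ∀ k₂ ∈ V990,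
    45024 - 105 * (u * u) + 240 * (t₁ * t₁ + t₂ * t₂) + 56 * (k₁ * k₁ + k₂ * k₂) =
      210 * ((14 - u + t₁ + t₂ + k₁ + k₂) * (14 - u + t₁ + t₂ + k₁ + k₂)) →
    ¬ (u * u + t₁ * t₁ + t₂ * t₂ + k₁ * k₁ + k₂ * k₂ +
      2 * ((14 - u + t₁ + t₂ + k₁ + k₂) * (14 - u + t₁ + t₂ + k₁ + k₂)) ≤ 1343) := by
  decide +kernel

theorem case2 : ∀ t₁ ∈ V231, ∀ t₂ ∈ V231, ∀ t₃ ∈ V231, ∀ t₄ ∈ V231, ∀ k₁ ∈ V990,
    45024 + 240 * (t₁ * t₁ + t₂ * t₂ + t₃ * t₃ + t₄ * t₄) + 56 * (k₁ * k₁) =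
      210 * ((14 + t₁ + t₂ + t₃ + t₄ + k₁) * (14 + t₁ + t₂ + t₃ + t₄ + k₁)) →
    ¬ (t₁ * t₁ + t₂ * t₂ + t₃ * t₃ + t₄ * t₄ + k₁ * k₁ +
      2 * ((14 + t₁ + t₂ + t₃ + t₄ + k₁) * (14 + t₁ + t₂ + t₃ + t₄ + k₁)) ≤ 1343) := by
  decide +kernel

theorem sq990 : ∀ k ∈ V990, k ^ 2 % 9 = 0 := by decide

theorem case3 {a k₁ k₂ w : ℤ} (h₁ : k₁ ∈ V990) (h₂ : k₂ ∈ V990)
    (h : 45024 - 2520 * a + 56 * (k₁ ^ 2 + k₂ ^ 2) = 210 * w ^ 2) : False := by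
  have h3 := sq990 k₁ h₁
  have h4 := sq990 k₂ h₂
  have h5 : w ^ 2 % 3 = 0 ∨ w ^ 2 % 3 = 1 := by
    have : w % 3 = 0 ∨ w % 3 = 1 ∨ w % 3 = 2 := by omega
    rcases this with h' | h' | h' <;> simp [pow_two, Int.mul_emod, h']
  omega

theorem case5 : ∀ u₁ ∈ V528, ∀ u₂ ∈ V528, ∀ t₁ ∈ V231, ∀ k₁ ∈ V990, ∀ k₂ ∈ V990,
    45024 - 105 * (u₁ * u₁ + u₂ * u₂) + 240 * (t₁ * t₁) + 56 * (k₁ * k₁ + k₂ * k₂) =
      -(112 * ((14 - u₁ - u₂ + t₁ + k₁ + k₂) * (14 - u₁ - u₂ + t₁ + k₁ + k₂))) →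
    ¬ (u₁ * u₁ + u₂ * u₂ + t₁ * t₁ + k₁ * k₁ + k₂ * k₂ +
      2 * ((14 - u₁ - u₂ + t₁ + k₁ + k₂) * (14 - u₁ - u₂ + t₁ + k₁ + k₂)) ≤ 1343) := by
  decide +kernel

theorem case6 : ∀ u ∈ V528, ∀ t₁ ∈ V231, ∀ t₂ ∈ V231, ∀ t₃ ∈ V231, ∀ k₁ ∈ V990,
    45024 - 105 * (u * u) + 240 * (t₁ * t₁ + t₂ * t₂ + t₃ * t₃) + 56 * (k₁ * k₁) =
      -(112 * ((14 - u + t₁ + t₂ + t₃ + k₁) * (14 - u + t₁ + t₂ + t₃ + k₁))) →
    ¬ (u * u + t₁ * t₁ + t₂ * t₂ + t₃ * t₃ + k₁ * k₁ +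
      2 * ((14 - u + t₁ + t₂ + t₃ + k₁) * (14 - u + t₁ + t₂ + t₃ + k₁)) ≤ 1343) := by
  decide +kernel

theorem case8 {a t k w : ℤ} (h₁ : t ∈ V231) (h₂ : k ∈ V990) (hw : (495 : ℤ) ∣ 253 * 15 * w)
    (h : 45024 - 2520 * a + 240 * t ^ 2 + 56 * k ^ 2 = -(112 * w ^ 2)) : False := by
  have h3 := sq990 k h₂
  have h4 : t ^ 2 % 3 = 0 ∨ t ^ 2 % 3 = 1 := by
    have : t % 3 = 0 ∨ t % 3 = 1 ∨ t % 3 = 2 := by omega
    rcases this with h' | h' | h' <;> simp [pow_two, Int.mul_emod, h']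
  obtain ⟨j, rfl⟩ : (3 : ℤ) ∣ w := by omega
  have h5 : (3 * j) ^ 2 = 9 * j ^ 2 := by ring
  rw [h5] at h
  omega

end Arith

variable {G : Type u} [Group G] [Finite G]

omit [Finite G] in
theorem exists_list5 {S : Finset (IrrCharacter G)} (f : IrrCharacter G → ℤ) (hS : S.card = 5) :
    ∃ c₁ c₂ c₃ c₄ c₅ : IrrCharacter G, (∀ χ, χ ∈ S ↔ χ ∈ [c₁, c₂, c₃, c₄, c₅]) ∧
      f c₁ ≤ f c₂ ∧ f c₂ ≤ f c₃ ∧ f c₃ ≤ f c₄ ∧ f c₄ ≤ f c₅ ∧
      [c₁, c₂, c₃, c₄, c₅].Nodup ∧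
      (∀ F : IrrCharacter G → ℂ, ∑ χ ∈ S, F χ = F c₁ + F c₂ + F c₃ + F c₄ + F c₅) := by
  classical
  obtain ⟨l, h1, h2, h3⟩ := DegreeData.exists_sorted S f
  have hl : l.length = 5 := by rw [← hS, ← h2, List.toFinset_card_of_nodup h1]
  obtain ⟨c₁, c₂, c₃, c₄, c₅, rfl⟩ : ∃ c₁ c₂ c₃ c₄ c₅, l = [c₁, c₂, c₃, c₄, c₅] := by
    match l, hl with
    | [c₁, c₂, c₃, c₄, c₅], _ => exact ⟨c₁, c₂, c₃, c₄, c₅, rfl⟩
  simp only [List.map_cons, List.map_nil, List.pairwise_cons, List.mem_cons, List.not_mem_nil,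
    or_false, forall_eq_or_imp, forall_eq, IsEmpty.forall_iff, implies_true, List.Pairwise.nil,
    and_true, false_imp_iff] at h3
  refine ⟨c₁, c₂, c₃, c₄, c₅, fun χ => by rw [← h2, List.mem_toFinset], h3.1.1, h3.2.1.1,
    h3.2.2.1.1, h3.2.2.2, h1, fun F => ?_⟩
  rw [← h2, List.sum_toFinset F h1]
  simp only [List.map_cons, List.map_nil, List.sum_cons, List.sum_nil]
  ring

variable [IsSimpleGroup G] {H : Hyp G} {z : G} {v : IrrCharacter G → ℤ}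
  {a b c d g h b₁ c₁ : IrrCharacter G}

theorem dg_mod (K : Elev H z v a b c d g h b₁ c₁) {χ : IrrCharacter G} (h0 : χ ≠ H.D.one)
    (ha : χ ≠ a) (hb : χ ≠ b) (hc : χ ≠ c) (hd : χ ≠ d) (hb₁ : χ ≠ b₁) (hc₁ : χ ≠ c₁) :
    dg χ % 11 = 0 := by
  refine mod11_out H (fun h' => ?_) (fun h' => ?_)
  · have := (K.mem χ).2 ⟨h', h0⟩
    simp only [List.mem_cons, List.not_mem_nil, or_false] at this
    tauto
  · have := (K.X χ).1 h'
    tauto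

/-- The principal 23-block: five characters. -/
theorem exists_rest (K : Elev H z v a b c d g h b₁ c₁) :
    ∃ x₁ x₂ x₃ x₄ x₅ : IrrCharacter G,
      (∀ χ, χ ∈ H.D.NE ↔ χ ∈ [H.D.one, b, c, b₁, c₁, g, x₁, x₂, x₃, x₄, x₅]) ∧
      (∀ χ ∈ [x₁, x₂, x₃, x₄, x₅], H.D.ε χ * (dg χ : ℤ) ∈ T) ∧
      H.D.ε x₁ * (dg x₁ : ℤ) ≤ H.D.ε x₂ * (dg x₂ : ℤ) ∧
      H.D.ε x₂ * (dg x₂ : ℤ) ≤ H.D.ε x₃ * (dg x₃ : ℤ) ∧
      H.D.ε x₃ * (dg x₃ : ℤ) ≤ H.D.ε x₄ * (dg x₄ : ℤ) ∧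
      H.D.ε x₄ * (dg x₄ : ℤ) ≤ H.D.ε x₅ * (dg x₅ : ℤ) ∧
      (∀ F : IrrCharacter G → ℂ, ∑ χ ∈ H.D.NE, F χ = F H.D.one + F b + F c + F b₁ + F c₁ + F g +
        (F x₁ + F x₂ + F x₃ + F x₄ + F x₅)) ∧
      (∀ F : IrrCharacter G → ℤ, ∑ χ ∈ H.D.NE, F χ = F H.D.one + F b + F c + F b₁ + F c₁ + F g +
        (F x₁ + F x₂ + F x₃ + F x₄ + F x₅)) := by
  classical
  have nb := mem_NE23 H (χ := b) (by rw [K.dgb]; norm_num)
  have nc := mem_NE23 H (χ := c) (by rw [K.dgc]; norm_num)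
  have nb₁ := mem_NE23 H (χ := b₁) (by rw [K.dgb₁]; norm_num)
  have nc₁ := mem_NE23 H (χ := c₁) (by rw [K.dgc₁]; norm_num)
  have ng := mem_NE23 H (χ := g) (by rw [K.dgg]; norm_num)
  have hbc : b ≠ c := by
    have := K.nodup
    simp only [List.nodup_cons, List.mem_cons, List.not_mem_nil, or_false, not_or] at this
    exact this.2.1.1
  have hne : ∀ {χ ψ : IrrCharacter G}, dg χ ≠ dg ψ → χ ≠ ψ := fun h h' => h (by rw [h'])
  set S := (((((H.D.NE.erase H.D.one).erase b).erase c).erase b₁).erase c₁).erase g with hSdef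
  have m1 : b ∈ H.D.NE.erase H.D.one :=
    Finset.mem_erase.2 ⟨hne (by rw [K.dgb, dg_one H]; norm_num), nb⟩
  have m2 : c ∈ (H.D.NE.erase H.D.one).erase b :=
    Finset.mem_erase.2 ⟨hbc.symm, Finset.mem_erase.2
      ⟨hne (by rw [K.dgc, dg_one H]; norm_num), nc⟩⟩
  have m3 : b₁ ∈ ((H.D.NE.erase H.D.one).erase b).erase c :=
    Finset.mem_erase.2 ⟨hne (by rw [K.dgb₁, K.dgc]; norm_num), Finset.mem_erase.2
      ⟨hne (by rw [K.dgb₁, K.dgb]; norm_num), Finset.mem_erase.2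
      ⟨hne (by rw [K.dgb₁, dg_one H]; norm_num), nb₁⟩⟩⟩
  have m4 : c₁ ∈ (((H.D.NE.erase H.D.one).erase b).erase c).erase b₁ :=
    Finset.mem_erase.2 ⟨K.b₁_ne.symm,
      Finset.mem_erase.2 ⟨hne (by rw [K.dgc₁, K.dgc]; norm_num), Finset.mem_erase.2
      ⟨hne (by rw [K.dgc₁, K.dgb]; norm_num), Finset.mem_erase.2
      ⟨hne (by rw [K.dgc₁, dg_one H]; norm_num), nc₁⟩⟩⟩⟩
  have m5 : g ∈ ((((H.D.NE.erase H.D.one).erase b).erase c).erase b₁).erase c₁ :=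
    Finset.mem_erase.2 ⟨hne (by rw [K.dgg, K.dgc₁]; norm_num), Finset.mem_erase.2
      ⟨hne (by rw [K.dgg, K.dgb₁]; norm_num),
      Finset.mem_erase.2 ⟨hne (by rw [K.dgg, K.dgc]; norm_num), Finset.mem_erase.2
      ⟨hne (by rw [K.dgg, K.dgb]; norm_num), Finset.mem_erase.2
      ⟨hne (by rw [K.dgg, dg_one H]; norm_num), ng⟩⟩⟩⟩⟩
  have hcard : S.card = 5 := by
    have e1 := Finset.card_erase_add_one H.D.one_mem
    have e2 := Finset.card_erase_add_one m1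
    have e3 := Finset.card_erase_add_one m2
    have e4 := Finset.card_erase_add_one m3
    have e5 := Finset.card_erase_add_one m4
    have e6 := Finset.card_erase_add_one m5
    rw [← hSdef] at e6
    rw [H.D.card_NE] at e1
    omega
  obtain ⟨x₁, x₂, x₃, x₄, x₅, hx, o1, o2, o3, o4, -, hsum⟩ :=
    exists_list5 (fun χ => H.D.ε χ * (dg χ : ℤ)) hcard
  have hsum' : ∀ F : IrrCharacter G → ℂ, ∑ χ ∈ H.D.NE, F χ =
      F H.D.one + F b + F c + F b₁ + F c₁ + F g + (F x₁ + F x₂ + F x₃ + F x₄ + F x₅) := by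
    intro F
    rw [← hsum F, ← Finset.add_sum_erase _ F H.D.one_mem, ← Finset.add_sum_erase _ F m1,
      ← Finset.add_sum_erase _ F m2, ← Finset.add_sum_erase _ F m3, ← Finset.add_sum_erase _ F m4,
      ← Finset.add_sum_erase _ F m5]
    ring
  refine ⟨x₁, x₂, x₃, x₄, x₅, ?_, ?_, o1, o2, o3, o4, hsum', ?_⟩
  · intro χ
    have h1 : χ ∈ S ↔ χ ∈ [x₁, x₂, x₃, x₄, x₅] := hx χ
    have h2 : χ ∈ S ↔ χ ≠ g ∧ χ ≠ c₁ ∧ χ ≠ b₁ ∧ χ ≠ c ∧ χ ≠ b ∧ χ ≠ H.D.one ∧ χ ∈ H.D.NE := by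
      rw [hSdef]
      simp only [Finset.mem_erase]
    constructor
    · intro h'
      by_contra h3
      simp only [List.mem_cons, List.not_mem_nil, or_false, not_or] at h3 h1
      have := h1.1 (h2.2 ⟨h3.2.2.2.2.2.1, h3.2.2.2.2.1, h3.2.2.2.1, h3.2.2.1, h3.2.1, h3.1, h'⟩)
      tauto
    · intro h'
      simp only [List.mem_cons, List.not_mem_nil, or_false] at h' h1
      rcases h' with rfl | rfl | rfl | rfl | rfl | rfl | h'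
      · exact H.D.one_mem
      · exact nb
      · exact nc
      · exact nb₁
      · exact nc₁
      · exact ng
      · exact (h2.1 (h1.2 h')).2.2.2.2.2.2
  · intro χ hχ
    have h1 := (hx χ).2 hχ
    rw [hSdef] at h1
    simp only [Finset.mem_erase] at h1
    obtain ⟨h2, h3, h4, h5, h6, h7, h8⟩ := h1
    have h11 : dg χ % 11 = 0 := by
      refine dg_mod K h7 ?_ h6 h5 ?_ h4 h3
      · rintro rfl
        rcases mod23_NE H h8 with h9 | h9 <;> rw [K.dga] at h9 <;> omega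
      · rintro rfl
        rcases mod23_NE H h8 with h9 | h9 <;> rw [K.dgd] at h9 <;> omega
    have hA := arith_T _ (dg_mem_A H χ) (fun h' => h7 (eq_one_of_dg H h')) h11
    rcases mod23_NE H h8 with ⟨h9, h10⟩ | ⟨h9, h10⟩
    · rw [h9, one_mul]; exact hA.1 h10
    · rw [h9, neg_one_mul]; exact hA.2 h10
  · intro F
    have := hsum' (fun χ => (F χ : ℂ))
    exact_mod_cast this

/-- The exceptional characters of the principal 23-block. -/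
theorem df_mem (K : Elev H z v a b c d g h b₁ c₁) : H.D.d * (H.D.f : ℤ) ∈ F := by
  obtain ⟨Θ, hΘ⟩ := X23_nonempty H
  have hm := mod23_X H hΘ
  have hf := H.D.deg_X Θ hΘ
  have hne : ∀ {ψ : IrrCharacter G}, (dg ψ % 23 ≠ 11 ∧ dg ψ % 23 ≠ 12) → Θ ≠ ψ := by
    rintro ψ h1 rfl
    rcases hm with h2 | h2
    · exact h1.1 h2.2
    · exact h1.2 h2.2
  have h11 : dg Θ % 11 = 0 := by
    refine dg_mod K ?_ ?_ ?_ ?_ ?_ ?_ ?_ <;> apply hne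
    · rw [dg_one H]; norm_num
    · rw [K.dga]; norm_num
    · rw [K.dgb]; norm_num
    · rw [K.dgc]; norm_num
    · rw [K.dgd]; norm_num
    · rw [K.dgb₁]; norm_num
    · rw [K.dgc₁]; norm_num
  have hA := arith_F _ (dg_mem_A H Θ) (dg_ne_eleven H Θ) h11
  rw [← hf]
  rcases hm with ⟨h1, h2⟩ | ⟨h1, h2⟩
  · rw [h1, one_mul]; exact hA.1 h2
  · rw [h1, neg_one_mul]; exact hA.2 h2

/-- Sums over the known characters. -/
theorem sum_known (K : Elev H z v a b c d g h b₁ c₁) (F : IrrCharacter G → ℤ) {w : ℤ}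
    (hw : ∀ Θ ∈ H.D.X, F Θ = w) : ∃ S : Finset (IrrCharacter G),
      ∑ χ ∈ S, F χ = F a + F d + F h + ∑ χ ∈ H.D.NE, F χ + 2 * w := by
  classical
  have hout : ∀ {χ : IrrCharacter G}, dg χ % 23 = 0 → χ ∉ H.D.NE ∪ H.D.X := by
    intro χ h1 h2
    rcases Finset.mem_union.1 h2 with h3 | h3
    · rcases mod23_NE H h3 with h4 | h4 <;> omega
    · rcases mod23_X H h3 with h4 | h4 <;> omega
  refine ⟨insert a (insert d (insert h (H.D.NE ∪ H.D.X))), ?_⟩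
  have hX : ∑ χ ∈ H.D.X, F χ = 2 * w := by
    rw [Finset.sum_congr rfl hw, Finset.sum_const, H.D.card_X]; norm_num
  have h1 : h ∉ H.D.NE ∪ H.D.X := hout (by rw [K.dgh])
  have h2 : d ∉ insert h (H.D.NE ∪ H.D.X) := by
    rw [Finset.mem_insert, not_or]
    refine ⟨fun h' => ?_, hout (by rw [K.dgd])⟩
    have e1 := K.dgd
    rw [h', K.dgh] at e1
    omega
  have h3 : a ∉ insert d (insert h (H.D.NE ∪ H.D.X)) := by
    rw [Finset.mem_insert, Finset.mem_insert, not_or, not_or]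
    refine ⟨fun h' => ?_, fun h' => ?_, hout (by rw [K.dga])⟩
    · have e1 := K.dga
      rw [h', K.dgd] at e1
      omega
    · have e1 := K.dga
      rw [h', K.dgh] at e1
      omega
  rw [Finset.sum_insert h3, Finset.sum_insert h2, Finset.sum_insert h1,
    Finset.sum_union H.D.disj, hX]
  ring

theorem dg_bound (K : Elev H z v a b c d g h b₁ c₁) :
    52900 + 1071225 + 4096576 + ∑ χ ∈ H.D.NE, (dg χ : ℤ) ^ 2 + 2 * (H.D.f : ℤ) ^ 2 ≤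
      10200960 := by
  obtain ⟨S, hS⟩ := sum_known K (fun χ => (dg χ : ℤ) ^ 2) (w := (H.D.f : ℤ) ^ 2)
    (fun Θ hΘ => by rw [H.D.deg_X Θ hΘ])
  have h1 := sum_dg_sq_le S
  rw [H.hcard] at h1
  have h2 : ∑ χ ∈ S, (dg χ : ℤ) ^ 2 ≤ 10200960 := by exact_mod_cast h1
  rw [hS] at h2
  simp only [K.dga, K.dgd, K.dgh] at h2
  norm_num at h2
  linarith

theorem v_bound (K : Elev H z v a b c d g h b₁ c₁) {Θ : IrrCharacter G} (hΘ : Θ ∈ H.D.X) :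
    484 + 729 + 64 + ∑ χ ∈ H.D.NE, v χ ^ 2 + 2 * v Θ ^ 2 ≤ 2688 := by
  have hd : H.D.d ≠ 0 := by rcases H.D.d_mem with h' | h' <;> rw [h'] <;> norm_num
  obtain ⟨S, hS⟩ := sum_known K (fun χ => v χ ^ 2) (w := v Θ ^ 2) (fun Θ' hΘ' => by
    have h1 := K.col.rel_one23 hΘ
    rw [K.col.rel_one23 hΘ'] at h1
    rw [mul_left_cancel₀ hd h1])
  have h1 := K.col.norm S
  rw [hS, K.va, K.vd, K.vh] at h1
  push_cast at h1
  linarith

/-- The conclusion: the principal 23-block is the one of `M₂₃`. -/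
theorem exists_block (K : Elev H z v a b c d g h b₁ c₁) :
    ∃ x₁ x₂ x₃ x₄ x₅ : IrrCharacter G,
      (∀ χ, χ ∈ H.D.NE ↔ χ ∈ [H.D.one, b, c, b₁, c₁, g, x₁, x₂, x₃, x₄, x₅]) ∧
      dg x₁ = 22 ∧ dg x₂ = 231 ∧ dg x₃ = 231 ∧ dg x₄ = 990 ∧ dg x₅ = 990 ∧
      H.D.f = 770 := by
  obtain ⟨x₁, x₂, x₃, x₄, x₅, hx, hT, o1, o2, o3, o4, hsC, hsZ⟩ := exists_rest K
  obtain ⟨Θ, hΘ⟩ := X23_nonempty H
  have hF := df_mem K
  have hne0 : ∀ {χ : IrrCharacter G}, dg χ ≠ 1 → χ ≠ H.D.one := fun h1 h2 => h1 (by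
    rw [h2, dg_one H])
  have nb := mem_NE23 H (χ := b) (by rw [K.dgb]; norm_num)
  have nc := mem_NE23 H (χ := c) (by rw [K.dgc]; norm_num)
  have nb₁ := mem_NE23 H (χ := b₁) (by rw [K.dgb₁]; norm_num)
  have nc₁ := mem_NE23 H (χ := c₁) (by rw [K.dgc₁]; norm_num)
  have ng := mem_NE23 H (χ := g) (by rw [K.dgg]; norm_num)
  have eb : H.D.ε b = -1 := by
    rcases mod23_NE H nb with h' | h' <;> rw [K.dgb] at h' <;> omega
  have ec : H.D.ε c = -1 := by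
    rcases mod23_NE H nc with h' | h' <;> rw [K.dgc] at h' <;> omega
  have eb₁ : H.D.ε b₁ = -1 := by
    rcases mod23_NE H nb₁ with h' | h' <;> rw [K.dgb₁] at h' <;> omega
  have ec₁ : H.D.ε c₁ = -1 := by
    rcases mod23_NE H nc₁ with h' | h' <;> rw [K.dgc₁] at h' <;> omega
  have eg : H.D.ε g = 1 := by
    rcases mod23_NE H ng with h' | h' <;> rw [K.dgg] at h' <;> omega
  have mx : ∀ χ ∈ [x₁, x₂, x₃, x₄, x₅], χ ∈ H.D.NE := fun χ hχ => (hx χ).2 (by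
    simp only [List.mem_cons, List.not_mem_nil, or_false] at hχ ⊢; tauto)
  -- degrees
  have hdeg := H.D.rel_deg (by norm_num) hΘ
  rw [hsZ, H.D.ε_one, dg_one H, eb, ec, eb₁, ec₁, eg, K.dgb, K.dgc, K.dgb₁, K.dgc₁, K.dgg] at hdeg
  have hbd := dg_bound K
  rw [hsZ, dg_one H, K.dgb, K.dgc, K.dgb₁, K.dgc₁, K.dgg] at hbd
  have hsq : ∀ χ ∈ [x₁, x₂, x₃, x₄, x₅], H.D.ε χ * (dg χ : ℤ) * (H.D.ε χ * (dg χ : ℤ)) =
      (dg χ : ℤ) ^ 2 := by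
    intro χ hχ
    rcases H.D.ε_mem χ (mx χ hχ) with h' | h' <;> rw [h'] <;> ring
  have hsqf : H.D.d * (H.D.f : ℤ) * (H.D.d * (H.D.f : ℤ)) = (H.D.f : ℤ) ^ 2 := by
    rcases H.D.d_mem with h' | h' <;> rw [h'] <;> ring
  have key := arith_cases _ (hT x₁ (by simp)) _ (hT x₂ (by simp)) o1 _ (hT x₃ (by simp)) o2 _
    (hT x₄ (by simp)) o3 _ (hT x₅ (by simp)) o4 _ hF (by push_cast at hdeg; linarith)
    (by
      rw [hsq x₁ (by simp), hsq x₂ (by simp), hsq x₃ (by simp), hsq x₄ (by simp),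
        hsq x₅ (by simp), hsqf]
      push_cast at hbd
      linarith)
  -- values
  have hR1 := K.col.rel_one23 hΘ
  rw [hsZ, H.D.ε_one, K.col.one, eb, ec, eb₁, ec₁, eg, K.vb, K.vc, v896 K.col K.dgb₁,
    v896 K.col K.dgc₁, K.vg] at hR1
  have hR2 := K.col.rel_two23 hΘ
  rw [hsC, H.D.ε_one, K.col.one, dg_one H, eb, ec, eb₁, ec₁, eg, K.vb, K.vc, v896 K.col K.dgb₁,
    v896 K.col K.dgc₁, K.vg, K.dgb, K.dgc, K.dgb₁, K.dgc₁, K.dgg, H.D.deg_X Θ hΘ] at hR2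
  have hnm := v_bound K hΘ
  rw [hsZ, K.col.one, K.vb, K.vc, v896 K.col K.dgb₁, v896 K.col K.dgc₁, K.vg] at hnm
  have hval : ∀ χ ∈ [x₁, x₂, x₃, x₄, x₅], ∀ n : ℤ, H.D.ε χ * (dg χ : ℤ) = n →
      (0 < n → H.D.ε χ = 1 ∧ (dg χ : ℤ) = n) ∧ (n < 0 → H.D.ε χ = -1 ∧ (dg χ : ℤ) = -n) := by
    intro χ hχ n hn
    have h1 : (0 : ℤ) < dg χ := by exact_mod_cast Nat.pos_of_ne_zero (dg_ne_zero χ)
    rcases H.D.ε_mem χ (mx χ hχ) with h' | h' <;> rw [h'] at hn ⊢ <;>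
      constructor <;> intro h2 <;> constructor <;> omega
  have hvalf : ∀ n : ℤ, H.D.d * (H.D.f : ℤ) = n →
      (0 < n → H.D.d = 1 ∧ (H.D.f : ℤ) = n) ∧ (n < 0 → H.D.d = -1 ∧ (H.D.f : ℤ) = -n) := by
    intro n hn
    have h1 : (0 : ℤ) ≤ H.D.f := by positivity
    rcases H.D.d_mem with h' | h' <;> rw [h'] at hn ⊢ <;>
      constructor <;> intro h2 <;> constructor <;> omega
  have hle : ∀ χ ∈ [x₁, x₂, x₃, x₄, x₅], v χ ^ 2 ≤ 1343 := by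
    intro χ hχ
    have q1 := sq_nonneg (v x₁)
    have q2 := sq_nonneg (v x₂)
    have q3 := sq_nonneg (v x₃)
    have q4 := sq_nonneg (v x₄)
    have q5 := sq_nonneg (v x₅)
    have q6 := sq_nonneg (v Θ)
    simp only [List.mem_cons, List.not_mem_nil, or_false] at hχ
    rcases hχ with h' | h' | h' | h' | h' <;> rw [h'] <;> linarith
  have h231 : ∀ χ ∈ [x₁, x₂, x₃, x₄, x₅], (dg χ : ℤ) = 231 → v χ ∈ V231 := by
    intro χ hχ h'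
    have h1 := K.col.dvd χ
    have h2 := K.col.four χ (hne0 (by omega))
    rw [h'] at h1 h2
    exact mem_V231 (hle χ hχ) (by exact_mod_cast h1) h2
  have h990 : ∀ χ ∈ [x₁, x₂, x₃, x₄, x₅], (dg χ : ℤ) = 990 → v χ ∈ V990 := by
    intro χ hχ h'
    have h1 := K.col.dvd χ
    have h2 := K.col.four χ (hne0 (by omega))
    rw [h'] at h1 h2
    exact mem_V990 (hle χ hχ) (by exact_mod_cast h1) h2
  have h528 : ∀ χ ∈ [x₁, x₂, x₃, x₄, x₅], (dg χ : ℤ) = 528 → v χ ∈ V528 := by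
    intro χ hχ h'
    have h1 := K.col.dvd χ
    rw [h'] at h1
    exact mem_V528 (hle χ hχ) (by exact_mod_cast h1)
  have hcast : ∀ {χ : IrrCharacter G} {n : ℤ}, (dg χ : ℤ) = n → (dg χ : ℂ) = n := by
    intro χ n h'
    exact_mod_cast h'
  have hcastf : ∀ {n : ℤ}, (H.D.f : ℤ) = n → (H.D.f : ℂ) = n := by
    intro n h'
    exact_mod_cast h'
  have hv1 := hval x₁ (by simp) _ rfl
  have hv2 := hval x₂ (by simp) _ rfl
  have hv3 := hval x₃ (by simp) _ rfl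
  have hv4 := hval x₄ (by simp) _ rfl
  have hv5 := hval x₅ (by simp) _ rfl
  have hvf := hvalf _ rfl
  have hdvdΘ := K.col.dvd Θ
  rw [H.D.deg_X Θ hΘ] at hdvdΘ
  clear hval hvalf hdeg hbd hsq hsqf hF hT o1 o2 o3 o4
  simp only [cases, List.mem_cons, List.cons.injEq, List.not_mem_nil, or_false, and_true] at key
  rcases key with ⟨k1, k2, k3, k4, k5, k6⟩ | ⟨k1, k2, k3, k4, k5, k6⟩ | ⟨k1, k2, k3, k4, k5, k6⟩ |
    ⟨k1, k2, k3, k4, k5, k6⟩ | ⟨k1, k2, k3, k4, k5, k6⟩ | ⟨k1, k2, k3, k4, k5, k6⟩ |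
    ⟨k1, k2, k3, k4, k5, k6⟩ | ⟨k1, k2, k3, k4, k5, k6⟩ <;>
    rw [k1] at hv1 <;> rw [k2] at hv2 <;> rw [k3] at hv3 <;> rw [k4] at hv4 <;>
    rw [k5] at hv5 <;> rw [k6] at hvf
  · exfalso
    obtain ⟨p1, q1⟩ := hv1.2 (by norm_num)
    obtain ⟨p2, q2⟩ := hv2.1 (by norm_num)
    obtain ⟨p3, q3⟩ := hv3.1 (by norm_num)
    obtain ⟨p4, q4⟩ := hv4.1 (by norm_num)
    obtain ⟨p5, q5⟩ := hv5.1 (by norm_num)
    obtain ⟨p6, q6⟩ := hvf.1 (by norm_num)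
    rw [p1, p2, p3, p4, p5, p6] at hR1 hR2
    rw [hcast q1, hcast q2, hcast q3, hcast q4, hcast q5, hcastf q6] at hR2
    have E : 45024 - 105 * v x₁ ^ 2 + 240 * v x₂ ^ 2 + 240 * v x₃ ^ 2 + 56 * v x₄ ^ 2 + 56 * v x₅ ^ 2 = 210 * v Θ ^ 2 := by
      have E' : ((45024 - 105 * v x₁ ^ 2 + 240 * v x₂ ^ 2 + 240 * v x₃ ^ 2 + 56 * v x₄ ^ 2 + 56 * v x₅ ^ 2 : ℤ) : ℂ) = ((210 * v Θ ^ 2 : ℤ) : ℂ) := by
        push_cast at hR2 ⊢
        linear_combination 55440 * hR2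
      exact_mod_cast E'
    have hw : v Θ = 14 - v x₁ + v x₂ + v x₃ + v x₄ + v x₅ := by linarith
    rw [hw] at E hnm
    exact case1 _ (h528 x₁ (by simp) (by omega)) _ (h231 x₂ (by simp) (by omega))
      _ (h231 x₃ (by simp) (by omega)) _ (h990 x₄ (by simp) (by omega))
      _ (h990 x₅ (by simp) (by omega)) (by linear_combination E) (by linarith)
  · exfalso
    obtain ⟨p1, q1⟩ := hv1.1 (by norm_num)
    obtain ⟨p2, q2⟩ := hv2.1 (by norm_num)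
    obtain ⟨p3, q3⟩ := hv3.1 (by norm_num)
    obtain ⟨p4, q4⟩ := hv4.1 (by norm_num)
    obtain ⟨p5, q5⟩ := hv5.1 (by norm_num)
    obtain ⟨p6, q6⟩ := hvf.1 (by norm_num)
    rw [p1, p2, p3, p4, p5, p6] at hR1 hR2
    rw [hcast q1, hcast q2, hcast q3, hcast q4, hcast q5, hcastf q6] at hR2
    have E : 45024 + 240 * v x₁ ^ 2 + 240 * v x₂ ^ 2 + 240 * v x₃ ^ 2 + 240 * v x₄ ^ 2 + 56 * v x₅ ^ 2 = 210 * v Θ ^ 2 := by
      have E' : ((45024 + 240 * v x₁ ^ 2 + 240 * v x₂ ^ 2 + 240 * v x₃ ^ 2 + 240 * v x₄ ^ 2 + 56 * v x₅ ^ 2 : ℤ) : ℂ) = ((210 * v Θ ^ 2 : ℤ) : ℂ) := by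
        push_cast at hR2 ⊢
        linear_combination 55440 * hR2
      exact_mod_cast E'
    have hw : v Θ = 14 + v x₁ + v x₂ + v x₃ + v x₄ + v x₅ := by linarith
    rw [hw] at E hnm
    exact case2 _ (h231 x₁ (by simp) (by omega)) _ (h231 x₂ (by simp) (by omega))
      _ (h231 x₃ (by simp) (by omega)) _ (h231 x₄ (by simp) (by omega))
      _ (h990 x₅ (by simp) (by omega)) (by linear_combination E) (by linarith)
  · exfalso
    obtain ⟨p1, q1⟩ := hv1.2 (by norm_num)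
    obtain ⟨p2, q2⟩ := hv2.2 (by norm_num)
    obtain ⟨p3, q3⟩ := hv3.2 (by norm_num)
    obtain ⟨p4, q4⟩ := hv4.1 (by norm_num)
    obtain ⟨p5, q5⟩ := hv5.1 (by norm_num)
    obtain ⟨p6, q6⟩ := hvf.1 (by norm_num)
    rw [p1, p2, p3, p4, p5, p6] at hR1 hR2
    rw [hcast q1, hcast q2, hcast q3, hcast q4, hcast q5, hcastf q6] at hR2
    have E : 45024 - 2520 * v x₁ ^ 2 - 2520 * v x₂ ^ 2 - 2520 * v x₃ ^ 2 + 56 * v x₄ ^ 2 + 56 * v x₅ ^ 2 = 210 * v Θ ^ 2 := by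
      have E' : ((45024 - 2520 * v x₁ ^ 2 - 2520 * v x₂ ^ 2 - 2520 * v x₃ ^ 2 + 56 * v x₄ ^ 2 + 56 * v x₅ ^ 2 : ℤ) : ℂ) = ((210 * v Θ ^ 2 : ℤ) : ℂ) := by
        push_cast at hR2 ⊢
        linear_combination 55440 * hR2
      exact_mod_cast E'
    have hw : v Θ = 14 - v x₁ - v x₂ - v x₃ + v x₄ + v x₅ := by linarith
    exact case3 (a := v x₁ ^ 2 + v x₂ ^ 2 + v x₃ ^ 2) (w := v Θ) (h990 x₄ (by simp) (by omega))
      (h990 x₅ (by simp) (by omega)) (by linear_combination E)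
  · obtain ⟨p1, q1⟩ := hv1.2 (by norm_num)
    obtain ⟨p2, q2⟩ := hv2.1 (by norm_num)
    obtain ⟨p3, q3⟩ := hv3.1 (by norm_num)
    obtain ⟨p4, q4⟩ := hv4.1 (by norm_num)
    obtain ⟨p5, q5⟩ := hv5.1 (by norm_num)
    obtain ⟨p6, q6⟩ := hvf.1 (by norm_num)
    exact ⟨x₁, x₂, x₃, x₄, x₅, hx, by omega, by omega, by omega, by omega, by omega, by omega⟩
  · exfalso
    obtain ⟨p1, q1⟩ := hv1.2 (by norm_num)
    obtain ⟨p2, q2⟩ := hv2.2 (by norm_num)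
    obtain ⟨p3, q3⟩ := hv3.1 (by norm_num)
    obtain ⟨p4, q4⟩ := hv4.1 (by norm_num)
    obtain ⟨p5, q5⟩ := hv5.1 (by norm_num)
    obtain ⟨p6, q6⟩ := hvf.2 (by norm_num)
    rw [p1, p2, p3, p4, p5, p6] at hR1 hR2
    rw [hcast q1, hcast q2, hcast q3, hcast q4, hcast q5, hcastf q6] at hR2
    have E : 45024 - 105 * v x₁ ^ 2 - 105 * v x₂ ^ 2 + 240 * v x₃ ^ 2 + 56 * v x₄ ^ 2 + 56 * v x₅ ^ 2 = -(112 * v Θ ^ 2) := by
      have E' : ((45024 - 105 * v x₁ ^ 2 - 105 * v x₂ ^ 2 + 240 * v x₃ ^ 2 + 56 * v x₄ ^ 2 + 56 * v x₅ ^ 2 : ℤ) : ℂ) = ((-(112 * v Θ ^ 2) : ℤ) : ℂ) := by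
        push_cast at hR2 ⊢
        linear_combination 55440 * hR2
      exact_mod_cast E'
    have hw : v Θ = -(14 - v x₁ - v x₂ + v x₃ + v x₄ + v x₅) := by linarith
    rw [hw] at E hnm
    exact case5 _ (h528 x₁ (by simp) (by omega)) _ (h528 x₂ (by simp) (by omega))
      _ (h231 x₃ (by simp) (by omega)) _ (h990 x₄ (by simp) (by omega))
      _ (h990 x₅ (by simp) (by omega)) (by linear_combination E) (by linarith)
  · exfalso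
    obtain ⟨p1, q1⟩ := hv1.2 (by norm_num)
    obtain ⟨p2, q2⟩ := hv2.1 (by norm_num)
    obtain ⟨p3, q3⟩ := hv3.1 (by norm_num)
    obtain ⟨p4, q4⟩ := hv4.1 (by norm_num)
    obtain ⟨p5, q5⟩ := hv5.1 (by norm_num)
    obtain ⟨p6, q6⟩ := hvf.2 (by norm_num)
    rw [p1, p2, p3, p4, p5, p6] at hR1 hR2
    rw [hcast q1, hcast q2, hcast q3, hcast q4, hcast q5, hcastf q6] at hR2
    have E : 45024 - 105 * v x₁ ^ 2 + 240 * v x₂ ^ 2 + 240 * v x₃ ^ 2 + 240 * v x₄ ^ 2 + 56 * v x₅ ^ 2 = -(112 * v Θ ^ 2) := by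
      have E' : ((45024 - 105 * v x₁ ^ 2 + 240 * v x₂ ^ 2 + 240 * v x₃ ^ 2 + 240 * v x₄ ^ 2 + 56 * v x₅ ^ 2 : ℤ) : ℂ) = ((-(112 * v Θ ^ 2) : ℤ) : ℂ) := by
        push_cast at hR2 ⊢
        linear_combination 55440 * hR2
      exact_mod_cast E'
    have hw : v Θ = -(14 - v x₁ + v x₂ + v x₃ + v x₄ + v x₅) := by linarith
    rw [hw] at E hnm
    exact case6 _ (h528 x₁ (by simp) (by omega)) _ (h231 x₂ (by simp) (by omega))
      _ (h231 x₃ (by simp) (by omega)) _ (h231 x₄ (by simp) (by omega))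
      _ (h990 x₅ (by simp) (by omega)) (by linear_combination E) (by linarith)
  · exfalso
    obtain ⟨p1, q1⟩ := hv1.1 (by norm_num)
    obtain ⟨p2, q2⟩ := hv2.1 (by norm_num)
    obtain ⟨p3, q3⟩ := hv3.1 (by norm_num)
    obtain ⟨p4, q4⟩ := hv4.1 (by norm_num)
    obtain ⟨p5, q5⟩ := hv5.1 (by norm_num)
    obtain ⟨p6, q6⟩ := hvf.2 (by norm_num)
    rw [p1, p2, p3, p4, p5, p6] at hR1 hR2
    rw [hcast q1, hcast q2, hcast q3, hcast q4, hcast q5, hcastf q6] at hR2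
    have E : 45024 + 240 * v x₁ ^ 2 + 240 * v x₂ ^ 2 + 240 * v x₃ ^ 2 + 240 * v x₄ ^ 2 + 240 * v x₅ ^ 2 = -(112 * v Θ ^ 2) := by
      have E' : ((45024 + 240 * v x₁ ^ 2 + 240 * v x₂ ^ 2 + 240 * v x₃ ^ 2 + 240 * v x₄ ^ 2 + 240 * v x₅ ^ 2 : ℤ) : ℂ) = ((-(112 * v Θ ^ 2) : ℤ) : ℂ) := by
        push_cast at hR2 ⊢
        linear_combination 55440 * hR2
      exact_mod_cast E'
    have hw : v Θ = -(14 + v x₁ + v x₂ + v x₃ + v x₄ + v x₅) := by linarith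
    nlinarith [sq_nonneg (v x₁), sq_nonneg (v x₂), sq_nonneg (v x₃), sq_nonneg (v x₄),
      sq_nonneg (v x₅), sq_nonneg (v Θ)]
  · exfalso
    obtain ⟨p1, q1⟩ := hv1.2 (by norm_num)
    obtain ⟨p2, q2⟩ := hv2.2 (by norm_num)
    obtain ⟨p3, q3⟩ := hv3.2 (by norm_num)
    obtain ⟨p4, q4⟩ := hv4.1 (by norm_num)
    obtain ⟨p5, q5⟩ := hv5.1 (by norm_num)
    obtain ⟨p6, q6⟩ := hvf.2 (by norm_num)
    rw [p1, p2, p3, p4, p5, p6] at hR1 hR2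
    rw [hcast q1, hcast q2, hcast q3, hcast q4, hcast q5, hcastf q6] at hR2
    have E : 45024 - 2520 * v x₁ ^ 2 - 2520 * v x₂ ^ 2 - 2520 * v x₃ ^ 2 + 240 * v x₄ ^ 2 + 56 * v x₅ ^ 2 = -(112 * v Θ ^ 2) := by
      have E' : ((45024 - 2520 * v x₁ ^ 2 - 2520 * v x₂ ^ 2 - 2520 * v x₃ ^ 2 + 240 * v x₄ ^ 2 + 56 * v x₅ ^ 2 : ℤ) : ℂ) = ((-(112 * v Θ ^ 2) : ℤ) : ℂ) := by
        push_cast at hR2 ⊢
        linear_combination 55440 * hR2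
      exact_mod_cast E'
    have hw : v Θ = -(14 - v x₁ - v x₂ - v x₃ + v x₄ + v x₅) := by linarith
    rw [q6] at hdvdΘ
    exact case8 (a := v x₁ ^ 2 + v x₂ ^ 2 + v x₃ ^ 2) (w := v Θ) (h231 x₄ (by simp) (by omega))
      (h990 x₅ (by simp) (by omega)) (by exact_mod_cast hdvdΘ) (by linear_combination E)

end Cfsg.Agent.M23Order.TwentyThree
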